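import Cfsg.Agent.Lib.BrauerP.TwoE.PermMain

/-!
# The case `e = 2`, `ε = -1`, `F 1 = p - 1`, with `F` faithful

The order of the group is `p (p - 1) (p - 2)`, all involutions are conjugate, and their centralizers
are elementary abelian of order `p - 1`.
-/

set_option autoImplicit false
set_option linter.unusedSectionVars false
set_option linter.unusedVariables false
set_option linter.style.haveILetI false
set_option linter.unusedSimpArgs false

namespace Cfsg.Agent.Lib.BrauerP.TwoE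

open Cfsg Module MulAction
open Cfsg.Agent.Lib.Char.Basic Cfsg.Agent.Lib.Char.Ortho Cfsg.Agent.Lib.Char.Complete
open Cfsg.Agent.Lib.Char.Degree Cfsg.Agent.Lib.Char.Induced
open Cfsg.Agent.Lib.ExcP.Gram Cfsg.Agent.Lib.ExcP.Dual Cfsg.Agent.Lib.ExcP.Core
open Cfsg.Agent.Lib.ExcP.Inst Cfsg.Agent.Lib.ExcP.BlockHA
open Cfsg.Agent.Lib.BrauerP.Data Cfsg.Agent.Lib.BrauerP.Data.BD Cfsg.Agent.Lib.BrauerP.Frob
open Cfsg.Agent.Lib.BrauerP.Fourier Cfsg.Agent.Lib.BrauerP.Tuan
open Cfsg.Agent.Lib.Char.ClassProd Cfsg.Agent.Lib.Char.ClassSum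
open scoped ComplexConjugate Classical

universe u v

section Count

variable {G : Type u} [Group G] [Finite G] {p : ℕ} [hp : Fact p.Prime] {P : Subgroup G}

/-- `τ v` is conjugate to `τ`. -/
theorem conj_τ_mul (hP : Nat.card P = p) (hodd : p ≠ 2) {τ : G} (hinv : ∀ u ∈ P, τ * u * τ⁻¹ = u⁻¹)
    {v : G} (hv : v ∈ P) : IsConj τ (τ * v) := by
  have hppow : ∀ u ∈ P, u ^ p = 1 := by
    intro u hu
    have h1 := pow_card_eq_one' (x := (⟨u, hu⟩ : P))
    rw [hP] at h1
    have := congrArg Subtype.val h1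
    simpa using this
  obtain ⟨m, hm⟩ : ∃ m, p + 1 = 2 * m := by
    rcases hp.out.eq_two_or_odd with h | h
    · exact absurd h hodd
    · exact ⟨(p + 1) / 2, by omega⟩
  set w := v ^ m with hw
  have hwP : w ∈ P := P.pow_mem hv m
  have hww : w * w = v := by
    rw [hw, ← pow_add, ← two_mul, ← hm, pow_succ, hppow v hv, one_mul]
  rw [isConj_iff]
  refine ⟨w⁻¹, ?_⟩
  have h2 : τ * w * τ⁻¹ = w⁻¹ := hinv w hwP
  have h3 : w⁻¹ * τ = τ * w := by
    rw [← h2]
    group
  rw [h3, inv_inv, mul_assoc, hww]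

/-- The number of ways of writing a nontrivial element of `P` as a product of two conjugates of
`τ`. -/
theorem count_τ (hP : Nat.card P = p) (hC : Cn P = P) (hN : Nat.card (Nn P) = p * 2) (hodd : p ≠ 2) {τ : G}
    (hττ : τ * τ = 1) (hτN : τ ∈ Nn P) (hτP : τ ∉ P) (hinv : ∀ u ∈ P, τ * u * τ⁻¹ = u⁻¹) {u : G} (hu : u ∈ P)
    (hu1 : u ≠ 1) : classProdCount τ τ u = p := by
  have hτi : τ⁻¹ = τ := inv_eq_of_mul_eq_one_left hττ
  -- the index of `P`
  have hPN : P ≤ Nn P := Subgroup.le_normalizer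
  have hidx : (P.subgroupOf (Nn P)).index = 2 := by
    have h1 := Subgroup.card_mul_index (P.subgroupOf (Nn P))
    have h2 : Nat.card (P.subgroupOf (Nn P)) = p := by
      rw [← hP]
      exact Nat.card_congr (Subgroup.subgroupOfEquivOfLe hPN).toEquiv
    rw [h2, hN] at h1
    exact Nat.eq_of_mul_eq_mul_left hp.out.pos h1
  have hinvol : ∀ a : G, IsConj τ a → a * a = 1 := by
    intro a ha
    obtain ⟨g, hg⟩ := isConj_iff.mp ha
    rw [← hg]
    calc g * τ * g⁻¹ * (g * τ * g⁻¹) = g * (τ * τ) * g⁻¹ := by group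
      _ = 1 := by rw [hττ]; group
  have hu2 : u⁻¹ ≠ u := by
    intro h
    have h1 : u * u = 1 := by
      nth_rewrite 1 [← h]
      exact inv_mul_cancel u
    have h4 : orderOf u ∣ 2 := orderOf_dvd_of_pow_eq_one (by rw [pow_two, h1])
    have h5 : orderOf u = p := by
      rw [← hP, eq_zpowers_of_mem hP hu hu1, Nat.card_zpowers]
    rw [h5] at h4
    exact hodd ((Nat.prime_dvd_prime_iff_eq hp.out Nat.prime_two).mp h4)
  -- the bijection
  have hmem : ∀ q : G × G, IsConj τ q.1 → IsConj τ q.2 → q.1 * q.2 = u → τ * q.1 ∈ P := by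
    rintro ⟨a, b⟩ ha hb hab
    simp only at ha hb hab ⊢
    have haa := hinvol a ha
    have hbb := hinvol b hb
    have hai : a⁻¹ = a := inv_eq_of_mul_eq_one_left haa
    have hbi : b⁻¹ = b := inv_eq_of_mul_eq_one_left hbb
    have h1 : a⁻¹ * u * a = u⁻¹ := by
      rw [← hab, mul_inv_rev, hai, hbi]
      calc a * (a * b) * a = (a * a) * b * a := by group
        _ = b * a := by rw [haa]; group
    have haN : a ∈ Nn P := by
      let _ := Fintype.ofFinite G
      apply Cfsg.Agent.Lib.BrauerP.Tuan.mem_normalizer_of_conj_mem hP hu hu1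
      rw [h1]
      exact P.inv_mem hu
    have haP : a ∉ P := by
      intro h
      have h2 := comm_of_card hP ⟨a, h⟩ ⟨u, hu⟩
      have h3 : a * u = u * a := congrArg Subtype.val h2
      apply hu2
      rw [← h1, mul_assoc, ← h3, ← mul_assoc, inv_mul_cancel, one_mul]
    have h2 := Subgroup.mul_mem_iff_of_index_two hidx (a := ⟨τ, hτN⟩) (b := ⟨a, haN⟩)
    have h3 : (⟨τ, hτN⟩ * ⟨a, haN⟩ : Nn P) ∈ P.subgroupOf (Nn P) := by
      rw [h2]
      constructor
      · intro h
        exact absurd h hτP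
      · intro h
        exact absurd h haP
    exact h3
  unfold classProdCount
  rw [← hP]
  symm
  refine Nat.card_congr ?_
  refine
    { toFun := fun v => ⟨(τ * v, τ * (v * u)), conj_τ_mul hP hodd hinv v.2,
        conj_τ_mul hP hodd hinv (P.mul_mem v.2 hu), ?_⟩
      invFun := fun q => ⟨τ * q.1.1, hmem q.1 q.2.1 q.2.2.1 q.2.2.2⟩
      left_inv := ?_
      right_inv := ?_ }
  · have h2 := hinv v v.2
    rw [hτi] at h2
    show τ * (v : G) * (τ * ((v : G) * u)) = u
    calc τ * (v : G) * (τ * ((v : G) * u)) = (τ * v * τ) * ((v : G) * u) := by group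
      _ = u := by rw [h2]; group
  · intro v
    apply Subtype.ext
    show τ * (τ * (v : G)) = v
    rw [← mul_assoc, hττ, one_mul]
  · rintro ⟨⟨a, b⟩, ha, hb, hab⟩
    apply Subtype.ext
    simp only at ha hb hab
    have haa := hinvol a ha
    have hb' : b = a * u := by
      rw [← hab, ← mul_assoc, haa, one_mul]
    refine Prod.ext ?_ ?_
    · show τ * (τ * a) = a
      rw [← mul_assoc, hττ, one_mul]
    · show τ * ((τ * a) * u) = b
      rw [hb', ← mul_assoc, ← mul_assoc, hττ, one_mul]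

end Count

section Main

variable {G : Type u} [Group G] [Fintype G] [Fintype (IrrCharacter G)] {p : ℕ} [hp : Fact p.Prime]
  {P : Subgroup G} {hP : Nat.card P = p} [Fintype P] [Fintype (DD P p)]

variable (D : BD P p 2 hP) (hp2 : ¬ p ^ 2 ∣ Nat.card G) (hC : Cn P = P) (hε : D.ε = -1)
  {F : IrrCharacter G} (hA : setA D = ∅) (hB : setB D = {F}) (hdeg : charDegree (F : G → ℂ) = p - 1)
  {τ : G} (hττ : τ * τ = 1) (hinv : ∀ u ∈ P, τ * u * τ⁻¹ = u⁻¹) (hodd : p ≠ 2)
  (hfaith : ∀ g : G, (F : G → ℂ) g = (p : ℂ) - 1 → g = 1)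

include hp2 hC hε hA hB hdeg hττ hinv hodd hfaith

omit hA hε hdeg hττ hinv hodd hfaith in
/-- `F` on elements of order divisible by `p`. -/
theorem F_sing {g : G} (hg : p ∣ orderOf g) : (F : G → ℂ) g = -1 := by
  have hχ := isCharacter_of_isIrrCharacter F.2
  have hcf := isClassFunction_iff_isConj.mp (isClassFunction_of_isCharacter hχ)
  obtain ⟨y, hy, hy1⟩ := exists_conj_mem hP hp2 hC hg
  rw [hcf g (y⁻¹ * g * y) (isConj_iff.mpr ⟨y⁻¹, by group⟩)]
  exact F_val D hp2 hB (u := ⟨_, hy⟩) (fun h => hy1 (congrArg Subtype.val h))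

/-- The values of `F`. -/
theorem F_vals {g : G} (hg : g ≠ 1) (hreg : ¬ p ∣ orderOf g) : (F : G → ℂ) g = 0 ∨ (F : G → ℂ) g = 1 := by
  rcases reg_vals D hp2 hC hε hA hB hdeg hττ hinv hodd hreg with h | h | h
  · exact Or.inl h
  · exact Or.inr h
  · exact absurd (hfaith g h) hg

/-- The order of the group. -/
theorem card_G : Nat.card G = p * (p - 1) * (p - 2) := by
  have hp1 := hp.out.two_le
  have hχ := isCharacter_of_isIrrCharacter F.2
  have hp3 : 3 ≤ p := by omega
  have hcard : (Nat.card G : ℂ) = ((p : ℂ) - 1) ^ 3 - ((p : ℂ) - 1) := by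
    have h1 := sum_F_cube D hp2 hC hε hA hB hdeg hττ hinv hodd
    have h2 := sum_F D hB
    have h3 : ∑ g, ((F : G → ℂ) g * (F : G → ℂ) g * (F : G → ℂ) g - (F : G → ℂ) g) = (Nat.card G : ℂ) := by
      rw [Finset.sum_sub_distrib, h1, h2, sub_zero]
    rw [Finset.sum_eq_single (1 : G)] at h3
    · rw [← h3, ← charDegree_natCast hχ, hdeg, Nat.cast_sub (by omega)]
      push_cast
      ring
    · intro g _ hg1
      by_cases hgp : p ∣ orderOf g
      · rw [F_sing D hp2 hC hB hgp]
        ring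
      · rcases F_vals D hp2 hC hε hA hB hdeg hττ hinv hodd hfaith hg1 hgp with h4 | h4
        · rw [h4]
          ring
        · rw [h4]
          ring
    · simp
  have h1 : ((Nat.card G : ℕ) : ℂ) = ((p * (p - 1) * (p - 2) : ℕ) : ℂ) := by
    rw [hcard, Nat.cast_mul, Nat.cast_mul, Nat.cast_sub (by omega), Nat.cast_sub (by omega)]
    push_cast
    ring
  exact_mod_cast h1

/-- The centralizer of `τ`. -/
theorem card_cent_τ (hτN : τ ∈ Nn P) (hτP : τ ∉ P) (hN : Nat.card (Nn P) = p * 2) :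
    Nat.card (Subgroup.centralizer ({τ} : Set G)) = p - 1 := by
  have hp1 := hp.out.two_le
  have hp3 : 3 ≤ p := by omega
  obtain ⟨u, hu⟩ := Cfsg.Agent.Lib.BrauerP.Data.exists_ne_one hP
  have hu' : (u : G) ≠ 1 := fun h => hu (Subtype.ext h)
  have h1 := count_eq τ τ (u : G)
  have hτreg := τ_reg (p := p) hττ hodd
  rw [struct_τ D hp2 hC hε hA hB hdeg hττ hinv hodd hu hτreg,
    F_τ D hp2 hB hdeg hττ hinv hodd, count_τ hP hC hN hodd hττ hτN hτP hinv u.2 hu',
    card_G D hp2 hC hε hA hB hdeg hττ hinv hodd hfaith] at h1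
  have hD := D₀_add D hp2 hε hA hB hdeg
  have hp2C : (p : ℂ) - 2 ≠ 0 := by
    have : ((p - 2 : ℕ) : ℂ) ≠ 0 := by
      have : p - 2 ≠ 0 := by omega
      exact_mod_cast this
    rwa [Nat.cast_sub (by omega)] at this
  have hp0 : (p : ℂ) ≠ 0 := by exact_mod_cast hp.out.ne_zero
  set c := Nat.card (Subgroup.centralizer ({τ} : Set G)) with hc
  have h2 : ((c * c : ℕ) : ℂ) = (((p - 1) * (p - 1) : ℕ) : ℂ) := by
    rw [Nat.cast_mul, Nat.cast_mul, Nat.cast_sub (by omega)]
    rw [Nat.cast_mul, Nat.cast_mul, Nat.cast_sub (by omega), Nat.cast_sub (by omega)] at h1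
    push_cast at h1 ⊢
    field_simp at h1
    linear_combination h1
  have h3 : c * c = (p - 1) * (p - 1) := by exact_mod_cast h2
  exact Nat.mul_self_inj.mp h3

/-- The conjugacy class of `τ`. -/
theorem card_class_τ (hτN : τ ∈ Nn P) (hτP : τ ∉ P) (hN : Nat.card (Nn P) = p * 2) :
    Nat.card {x : G // IsConj τ x} = p * (p - 2) := by
  have hp1 := hp.out.two_le
  have hp3 : 3 ≤ p := by omega
  have h1 := card_class_mul_card_centralizer τ
  rw [card_cent_τ D hp2 hC hε hA hB hdeg hττ hinv hodd hfaith hτN hτP hN,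
    card_G D hp2 hC hε hA hB hdeg hττ hinv hodd hfaith] at h1
  have h2 : 0 < p - 1 := by omega
  apply Nat.eq_of_mul_eq_mul_right h2
  rw [h1]
  ring

/-- The elements on which `F` vanishes form the class of `τ`. -/
theorem F_zero_iff (hτN : τ ∈ Nn P) (hτP : τ ∉ P) (hN : Nat.card (Nn P) = p * 2) (g : G) :
    (F : G → ℂ) g = 0 ↔ IsConj τ g := by
  have hp1 := hp.out.two_le
  have hp3 : 3 ≤ p := by omega
  have hχ := isCharacter_of_isIrrCharacter F.2
  have hcf := isClassFunction_iff_isConj.mp (isClassFunction_of_isCharacter hχ)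
  have hFτ := F_τ D hp2 hB hdeg hττ hinv hodd
  have hF1 : (F : G → ℂ) 1 = (p : ℂ) - 1 := by
    rw [← charDegree_natCast hχ, hdeg, Nat.cast_sub (by omega)]
    simp
  have hsub : (Finset.univ.filter (fun x : G => IsConj τ x)) ⊆
      (Finset.univ.filter (fun x : G => (F : G → ℂ) x = 0)) := by
    intro x hx
    rw [Finset.mem_filter] at hx ⊢
    refine ⟨hx.1, ?_⟩
    rw [← hcf τ x hx.2, hFτ]
  have hcB : (Finset.univ.filter (fun x : G => IsConj τ x)).card = p * (p - 2) := by
    have h1 := card_class_τ D hp2 hC hε hA hB hdeg hττ hinv hodd hfaith hτN hτP hN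
    rw [Nat.card_eq_fintype_card, Fintype.card_subtype] at h1
    exact h1
  have hcA : (Finset.univ.filter (fun x : G => (F : G → ℂ) x = 0)).card = p * (p - 2) := by
    have hval : ∀ x : G, 1 - (F : G → ℂ) x * (F : G → ℂ) x =
        (if (F : G → ℂ) x = 0 then (1 : ℂ) else 0) + (if x = 1 then (1 - ((p : ℂ) - 1) * ((p : ℂ) - 1)) else 0) := by
      intro x
      by_cases hx : x = 1
      · subst hx
        have hne : (F : G → ℂ) 1 ≠ 0 := by
          rw [hF1]
          intro h
          have h3 : ((p - 1 : ℕ) : ℂ) = 0 := by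
            rw [Nat.cast_sub (by omega)]
            simpa using h
          have h4 : p - 1 = 0 := by exact_mod_cast h3
          omega
        rw [if_neg hne, if_pos rfl, hF1]
        ring
      · rw [if_neg hx, add_zero]
        by_cases hgp : p ∣ orderOf x
        · rw [F_sing D hp2 hC hB hgp, if_neg (by norm_num)]
          ring
        · rcases F_vals D hp2 hC hε hA hB hdeg hττ hinv hodd hfaith hx hgp with h4 | h4
          · rw [h4, if_pos rfl]
            ring
          · rw [h4, if_neg (by norm_num)]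
            ring
    have hsum : ∑ x : G, (1 - (F : G → ℂ) x * (F : G → ℂ) x) = 0 := by
      rw [Finset.sum_sub_distrib, sum_F_sq D hp2 hC hε hA hB hdeg hττ hinv hodd, Finset.sum_const, Finset.card_univ, nsmul_eq_mul,
        mul_one, Nat.card_eq_fintype_card, sub_self]
    simp only [hval] at hsum
    rw [Finset.sum_add_distrib, Finset.sum_boole, Finset.sum_ite_eq' Finset.univ (1 : G)
      (fun _ => (1 - ((p : ℂ) - 1) * ((p : ℂ) - 1))), if_pos (Finset.mem_univ _)] at hsum
    have h5 : (((Finset.univ.filter (fun x : G => (F : G → ℂ) x = 0)).card : ℕ) : ℂ) = ((p * (p - 2) : ℕ) : ℂ) := by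
      rw [Nat.cast_mul, Nat.cast_sub (by omega)]
      push_cast
      linear_combination hsum
    exact_mod_cast h5
  have heq := Finset.eq_of_subset_of_card_le hsub (by rw [hcA, hcB])
  constructor
  · intro h
    have h1 : g ∈ Finset.univ.filter (fun x : G => (F : G → ℂ) x = 0) :=
      Finset.mem_filter.mpr ⟨Finset.mem_univ _, h⟩
    rw [← heq] at h1
    exact (Finset.mem_filter.mp h1).2
  · intro h
    rw [← hcf τ g h, hFτ]

/-- Nontrivial elements commuting with `τ` are regular. -/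
theorem cent_reg (hτ1 : τ ≠ 1) {c : G} (hc : c * τ = τ * c) : ¬ p ∣ orderOf c := by
  intro h
  obtain ⟨x, hx, hx1⟩ := exists_conj_mem hP hp2 hC h
  -- `x⁻¹ c x` lies in `P`, and it has a power of order `p`; this commutes with `x⁻¹ τ x`.
  set y := x⁻¹ * τ * x with hy
  have hcy : (x⁻¹ * c * x) * y = y * (x⁻¹ * c * x) := by
    rw [hy]
    calc x⁻¹ * c * x * (x⁻¹ * τ * x) = x⁻¹ * (c * τ) * x := by group
      _ = x⁻¹ * (τ * c) * x := by rw [hc]
      _ = x⁻¹ * τ * x * (x⁻¹ * c * x) := by group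
  have hyC : y ∈ Cn P := by
    have hz := eq_zpowers_of_mem hP hx hx1
    rw [Subgroup.mem_centralizer_iff]
    intro v hv
    have hv' : v ∈ P := hv
    rw [hz] at hv'
    obtain ⟨k, rfl⟩ := Subgroup.mem_zpowers_iff.mp hv'
    exact (Commute.zpow_left (show Commute (x⁻¹ * c * x) y from hcy) k).eq
  rw [hC] at hyC
  have hyy : y ^ 2 = 1 := by
    rw [hy, pow_two]
    calc x⁻¹ * τ * x * (x⁻¹ * τ * x) = x⁻¹ * (τ * τ) * x := by group
      _ = 1 := by rw [hττ]; group
  have hy1 : y ≠ 1 := by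
    rw [hy]
    intro h0
    apply hτ1
    have : τ = x * (x⁻¹ * τ * x) * x⁻¹ := by group
    rw [this, h0]
    group
  have h1 : orderOf (⟨y, hyC⟩ : P) ∣ p := by
    rw [← hP]
    exact orderOf_dvd_natCard _
  have h2 : orderOf (⟨y, hyC⟩ : P) = orderOf y := Subgroup.orderOf_mk _ _
  have h3 : orderOf y = 2 := orderOf_eq_prime hyy hy1
  rw [h2, h3] at h1
  exact hodd ((Nat.prime_dvd_prime_iff_eq Nat.prime_two hp.out).mp h1).symm

/-- The centralizer of `τ` has exponent 2. -/
theorem cent_conj (hτN : τ ∈ Nn P) (hτP : τ ∉ P) (hN : Nat.card (Nn P) = p * 2) (hτ1 : τ ≠ 1)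
    {c : G} (hc : c * τ = τ * c) (hc1 : c ≠ 1) : IsConj τ c := by
  classical
  have hp1 := hp.out.two_le
  have hp3 : 3 ≤ p := by omega
  have hχ := isCharacter_of_isIrrCharacter F.2
  set H := Subgroup.centralizer ({τ} : Set G) with hH
  have hcard : Nat.card H = p - 1 := card_cent_τ D hp2 hC hε hA hB hdeg hττ hinv hodd hfaith hτN hτP hN
  obtain ⟨a, ha⟩ := exists_sum_char H hχ
  have hF1 : (F : G → ℂ) 1 = (p : ℂ) - 1 := by
    rw [← charDegree_natCast hχ, hdeg, Nat.cast_sub (by omega)]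
    simp
  have hmemH : ∀ k : H, (k : G) * τ = τ * k := by
    intro k
    have h1 := Subgroup.mem_centralizer_iff.mp k.2 τ (Set.mem_singleton τ)
    exact h1.symm
  have hval : ∀ k : H, (F : G → ℂ) k = (if (F : G → ℂ) k = 1 then (1 : ℂ) else 0) +
      (if k = 1 then (p : ℂ) - 1 else 0) := by
    intro k
    by_cases hk : k = 1
    · subst hk
      have hne : (F : G → ℂ) ((1 : H) : G) ≠ 1 := by
        show (F : G → ℂ) 1 ≠ 1
        rw [hF1]
        intro h
        have h3 : ((p : ℕ) : ℂ) = ((2 : ℕ) : ℂ) := by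
          push_cast
          linear_combination h
        have h4 : p = 2 := by exact_mod_cast h3
        exact hodd h4
      rw [if_neg hne, if_pos rfl, zero_add]
      exact hF1
    · have hk1 : (k : G) ≠ 1 := fun h => hk (Subtype.ext h)
      rw [if_neg hk, add_zero]
      rcases F_vals D hp2 hC hε hA hB hdeg hττ hinv hodd hfaith hk1
        (cent_reg D hp2 hC hε hA hB hdeg hττ hinv hodd hfaith hτ1 (hmemH k)) with h4 | h4
      · rw [h4, if_neg (by norm_num)]
      · rw [h4, if_pos rfl]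
  set S := Finset.univ.filter (fun k : H => (F : G → ℂ) k = 1) with hS
  have h1 : ((S.card + (p - 1) : ℕ) : ℂ) = ((p - 1) * a : ℕ) := by
    have h2 : ∑ k : H, (F : G → ℂ) k = (S.card : ℂ) + ((p : ℂ) - 1) := by
      rw [Finset.sum_congr rfl (fun k _ => hval k), Finset.sum_add_distrib, Finset.sum_boole,
        Finset.sum_ite_eq' Finset.univ (1 : H) (fun _ => (p : ℂ) - 1), if_pos (Finset.mem_univ _)]
    rw [h2, hcard] at ha
    rw [Nat.cast_add, Nat.cast_mul, Nat.cast_sub (by omega)]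
    rw [Nat.cast_sub (by omega)] at ha
    push_cast at ha ⊢
    exact ha
  have h2 : S.card + (p - 1) = (p - 1) * a := by exact_mod_cast h1
  have hnot1 : (1 : H) ∉ S := by
    intro h
    have h3 := (Finset.mem_filter.mp h).2
    have h4 : (F : G → ℂ) 1 = 1 := h3
    rw [hF1] at h4
    have h5 : ((p : ℕ) : ℂ) = ((2 : ℕ) : ℂ) := by
      push_cast
      linear_combination h4
    have h6 : p = 2 := by exact_mod_cast h5
    exact hodd h6
  have h3 : S.card < p - 1 := by
    have h4 : S ⊆ Finset.univ.erase (1 : H) := by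
      intro k hk
      rw [Finset.mem_erase]
      refine ⟨?_, Finset.mem_univ _⟩
      rintro rfl
      exact hnot1 hk
    have h5 := Finset.card_le_card h4
    rw [Finset.card_erase_of_mem (Finset.mem_univ _), Finset.card_univ, ← Nat.card_eq_fintype_card,
      hcard] at h5
    omega
  have h4 : (p - 1) ∣ S.card := by
    have h5 : (p - 1) ∣ S.card + (p - 1) := ⟨a, h2⟩
    exact (Nat.dvd_add_left (dvd_refl _)).mp h5
  have h5 : S.card = 0 := Nat.eq_zero_of_dvd_of_lt h4 h3
  have hcH : c ∈ H := Subgroup.mem_centralizer_iff.mpr (by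
    intro g hg
    rw [Set.mem_singleton_iff.mp hg]
    exact hc.symm)
  rw [← F_zero_iff D hp2 hC hε hA hB hdeg hττ hinv hodd hfaith hτN hτP hN]
  rcases F_vals D hp2 hC hε hA hB hdeg hττ hinv hodd hfaith hc1
    (cent_reg D hp2 hC hε hA hB hdeg hττ hinv hodd hfaith hτ1 hc) with h4 | h4
  · exact h4
  · exfalso
    have h6 : (⟨c, hcH⟩ : H) ∈ S := Finset.mem_filter.mpr ⟨Finset.mem_univ _, h4⟩
    rw [Finset.card_eq_zero.mp h5] at h6
    simp at h6

/-- All involutions are conjugate. -/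
theorem invol_conj (hτN : τ ∈ Nn P) (hτP : τ ∉ P) (hN : Nat.card (Nn P) = p * 2)
    {x : G} (hxx : x * x = 1) (hx1 : x ≠ 1) : IsConj τ x := by
  have hp1 := hp.out.two_le
  have hreg : ¬ p ∣ orderOf x := τ_reg (p := p) hxx hodd
  rw [← F_zero_iff D hp2 hC hε hA hB hdeg hττ hinv hodd hfaith hτN hτP hN]
  rcases F_vals D hp2 hC hε hA hB hdeg hττ hinv hodd hfaith hx1 hreg with h4 | h4
  · exact h4
  · exfalso
    have h5 := ν_eq D hε hA hB ⟨0, D.t_pos⟩ hreg
    rw [h4, sub_self] at h5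
    have hD := D₀_add D hp2 hε hA hB hdeg
    have hodd2 : Odd (charDegree ((D.ν ⟨0, D.t_pos⟩ : IrrCharacter G) : G → ℂ)) := by
      rw [D.hνdeg]
      rcases hp.out.eq_two_or_odd with h | h
      · exact absurd h hodd
      · exact Nat.odd_iff.mpr (by omega)
    have h6 : orderOf x = 2 ^ 1 := by
      rw [pow_one]
      exact orderOf_eq_prime (by rw [pow_two, hxx]) hx1
    exact val_ne_zero_of_odd (isCharacter_of_isIrrCharacter (D.ν ⟨0, D.t_pos⟩).2) h6 hodd2 h5

/-- The centralizer of an involution. -/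
theorem card_cent_invol (hτN : τ ∈ Nn P) (hτP : τ ∉ P) (hN : Nat.card (Nn P) = p * 2)
    {x : G} (hxx : x * x = 1) (hx1 : x ≠ 1) :
    Nat.card (Subgroup.centralizer ({x} : Set G)) = p - 1 := by
  have h1 := card_class_mul_card_centralizer x
  have h2 := card_class_mul_card_centralizer τ
  have h3 := invol_conj D hp2 hC hε hA hB hdeg hττ hinv hodd hfaith hτN hτP hN hxx hx1
  have h4 : Nat.card {y : G // IsConj x y} = Nat.card {y : G // IsConj τ y} :=
    Nat.card_congr (Equiv.subtypeEquivRight fun y => ⟨fun h => h3.trans h, fun h => h3.symm.trans h⟩)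
  rw [h4, ← h2] at h1
  rw [← card_cent_τ D hp2 hC hε hA hB hdeg hττ hinv hodd hfaith hτN hτP hN]
  haveI : Nonempty {y : G // IsConj τ y} := ⟨⟨τ, IsConj.refl τ⟩⟩
  exact Nat.eq_of_mul_eq_mul_left Nat.card_pos h1

/-- The elements of the centralizer of an involution are involutions. -/
theorem sq_of_cent_invol (hτN : τ ∈ Nn P) (hτP : τ ∉ P) (hN : Nat.card (Nn P) = p * 2)
    (hτ1 : τ ≠ 1) {x : G} (hxx : x * x = 1) (hx1 : x ≠ 1) {c : G} (hc : c * x = x * c) : c * c = 1 := by
  obtain ⟨y, hy⟩ := isConj_iff.mp (invol_conj D hp2 hC hε hA hB hdeg hττ hinv hodd hfaith hτN hτP hN hxx hx1)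
  by_cases hc1 : c = 1
  · rw [hc1, one_mul]
  have hc' : (y⁻¹ * c * y) * τ = τ * (y⁻¹ * c * y) := by
    have hx : x = y * τ * y⁻¹ := hy.symm
    rw [hx] at hc
    calc y⁻¹ * c * y * τ = y⁻¹ * (c * (y * τ * y⁻¹)) * y := by group
      _ = y⁻¹ * ((y * τ * y⁻¹) * c) * y := by rw [hc]
      _ = τ * (y⁻¹ * c * y) := by group
  have hc1' : y⁻¹ * c * y ≠ 1 := by
    intro h
    apply hc1
    have : c = y * (y⁻¹ * c * y) * y⁻¹ := by group
    rw [this, h]
    group
  obtain ⟨z, hz⟩ := isConj_iff.mp (cent_conj D hp2 hC hε hA hB hdeg hττ hinv hodd hfaith hτN hτP hN hτ1 hc' hc1')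
  have h1 : (y⁻¹ * c * y) * (y⁻¹ * c * y) = 1 := by
    rw [← hz]
    calc z * τ * z⁻¹ * (z * τ * z⁻¹) = z * (τ * τ) * z⁻¹ := by group
      _ = 1 := by rw [hττ]; group
  have h2 : c * c = y * ((y⁻¹ * c * y) * (y⁻¹ * c * y)) * y⁻¹ := by group
  rw [h2, h1]
  group

/-- `p - 1` is a power of `2`. -/
theorem exists_pow_two (hτN : τ ∈ Nn P) (hτP : τ ∉ P) (hN : Nat.card (Nn P) = p * 2) (hτ1 : τ ≠ 1) :
    ∃ a : ℕ, p - 1 = 2 ^ a := by
  have h1 : IsPGroup 2 (Subgroup.centralizer ({τ} : Set G)) := by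
    intro c
    refine ⟨1, ?_⟩
    apply Subtype.ext
    have hc : (c : G) * τ = τ * c := (Subgroup.mem_centralizer_iff.mp c.2 τ (Set.mem_singleton τ)).symm
    have := sq_of_cent_invol D hp2 hC hε hA hB hdeg hττ hinv hodd hfaith hτN hτP hN hτ1 hττ hτ1 hc
    simp only [pow_one, Subgroup.coe_pow, Subgroup.coe_one, pow_two]
    exact this
  haveI : Fact (Nat.Prime 2) := ⟨Nat.prime_two⟩
  obtain ⟨a, ha⟩ := IsPGroup.iff_card.mp h1
  refine ⟨a, ?_⟩
  rw [← ha, card_cent_τ D hp2 hC hε hA hB hdeg hττ hinv hodd hfaith hτN hτP hN]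

end Main

end Cfsg.Agent.Lib.BrauerP.TwoE
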