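import Cfsg.Agent.Lib.BrauerP.Tuan.Core

/-!
# The principal block when `e = 2`, `ε = -1`, and a member of degree `p - 1`

The tree of the block is `1 - F - ν`, with `F 1 = p - 1` and `ν 1 = p - 2`.  The character `1 + F`
looks like the permutation character of a sharply triply transitive group, and this file proves
that the values of `F` are those of such a character (up to the kernel of `F`).
-/

set_option autoImplicit false
set_option linter.unusedSectionVars false
set_option linter.unusedVariables false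

namespace Cfsg.Agent.Lib.BrauerP.TwoE

open Cfsg Module MulAction
open Cfsg.Agent.Lib.Char.Basic Cfsg.Agent.Lib.Char.Ortho Cfsg.Agent.Lib.Char.Complete
open Cfsg.Agent.Lib.Char.Degree Cfsg.Agent.Lib.Char.Induced
open Cfsg.Agent.Lib.ExcP.Gram Cfsg.Agent.Lib.ExcP.Dual Cfsg.Agent.Lib.ExcP.Core
open Cfsg.Agent.Lib.ExcP.Inst Cfsg.Agent.Lib.ExcP.BlockHA
open Cfsg.Agent.Lib.BrauerP.Data Cfsg.Agent.Lib.BrauerP.Data.BD Cfsg.Agent.Lib.BrauerP.Frob
open Cfsg.Agent.Lib.BrauerP.Fourier Cfsg.Agent.Lib.BrauerP.Tuan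
open Cfsg.Agent.Lib.Char.ClassProd Cfsg.Agent.Lib.Char.ClassSum
open scoped ComplexConjugate Classical

universe u

variable {G : Type u} [Group G] [Fintype G] [Fintype (IrrCharacter G)] {p e : ℕ} [hp : Fact p.Prime]
  {P : Subgroup G} {hP : Nat.card P = p} [Fintype P] [Fintype (DD P p)]

section Indep

variable (D : BD P p e hP) (hp2 : ¬ p ^ 2 ∣ Nat.card G)

include hp2

/-- The functions `sg i` are independent on `P \ {1}`. -/
theorem sg_indep (x : Fin D.t → ℂ) (h : ∀ u : P, u ≠ 1 → ∑ i, x i * sg D i u = 0) (i : Fin D.t) :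
    x i = 0 := by
  have he0 : (e : ℂ) ≠ 0 := by exact_mod_cast D.e_pos.ne'
  have hp0 : (p : ℂ) ≠ 0 := by exact_mod_cast hp.out.ne_zero
  have key : ∀ k, (p : ℂ) * x k = (e : ℂ) * ∑ i, x i := by
    intro k
    have h1 : ∑ u : P, (∑ i, x i * sg D i u) * conj (sg D k u) = (p : ℂ) * e * x k := by
      simp only [Finset.sum_mul]
      rw [Finset.sum_comm]
      have h3 : ∀ i, ∑ u : P, x i * sg D i u * conj (sg D k u) = x i * (if i = k then (p : ℂ) * e else 0) := by
        intro i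
        simp only [mul_assoc]
        rw [← Finset.mul_sum, sum_sg_sg D hp2]
      simp only [h3]
      rw [Finset.sum_eq_single k]
      · rw [if_pos rfl]
        ring
      · intro b _ hb
        rw [if_neg hb, mul_zero]
      · simp
    have h2 : ∑ u : P, (∑ i, x i * sg D i u) * conj (sg D k u) = (∑ i, x i * (e : ℂ)) * (e : ℂ) := by
      rw [Finset.sum_eq_single (1 : P)]
      · simp only [sg_one, map_natCast]
      · intro u _ hu
        rw [h u hu, zero_mul]
      · simp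
    rw [h2, ← Finset.sum_mul] at h1
    apply mul_left_cancel₀ he0
    linear_combination -h1
  -- the sum
  have hsum : ∑ i, x i = 0 := by
    have h1 : (p : ℂ) * ∑ i, x i = ((D.t * e : ℕ) : ℂ) * ∑ i, x i := by
      rw [Finset.mul_sum]
      simp only [key]
      rw [Finset.sum_const, Finset.card_univ, Fintype.card_fin, nsmul_eq_mul]
      push_cast
      ring
    rw [D.hte, Nat.cast_sub hp.out.one_lt.le] at h1
    push_cast at h1
    linear_combination h1
  have h1 := key i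
  rw [hsum, mul_zero] at h1
  exact (mul_eq_zero.mp h1).resolve_left hp0

end Indep

section Minus

variable (D : BD P p 2 hP) (hp2 : ¬ p ^ 2 ∣ Nat.card G) (hC : Cn P = P) (hε : D.ε = -1)
  {F : IrrCharacter G} (hA : setA D = ∅) (hB : setB D = {F}) (hdeg : charDegree (F : G → ℂ) = p - 1)

include hB in
theorem F_mem : F ∈ setB D := by rw [hB]; exact Finset.mem_singleton_self F

include hB in
theorem z_F : D.z F = 1 := (Finset.mem_filter.mp (F_mem D hB)).2

include hB in
theorem F_ne_one : F ≠ oneIrr G := by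
  intro h
  have h1 := z_F D hB
  rw [h, D.hzone] at h1
  norm_num at h1

include hp2 hε hA hB hdeg in
/-- The degree of the exceptional characters. -/
theorem D₀_add : D.D₀ + 2 = p := by
  have h1 := rel_minus D hp2 hε
  rw [hA, hB, Finset.sum_empty, Finset.sum_singleton, hdeg] at h1
  have hp1 := hp.out.two_le
  have h2 : ((p - 1 : ℕ) : ℤ) = (p : ℤ) - 1 := by
    rw [Nat.cast_sub (by omega)]
    simp
  rw [h2] at h1
  push_cast at h1
  omega

include hp2 hB in
theorem F_val {u : P} (hu : u ≠ 1) : (F : G → ℂ) u = -1 := by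
  rw [D.val_z hp2 (j := F) (by rw [z_F D hB]; norm_num) hu, z_F D hB]
  simp

include hp2 hε in
theorem ν_val {u : P} (hu : u ≠ 1) (i : Fin D.t) : (D.ν i : G → ℂ) u = -sg D i u := by
  rw [val_ν' D hp2 i hu, hε]
  simp

include hε hA hB in
/-- The exceptional characters on regular elements. -/
theorem ν_eq (i : Fin D.t) {g : G} (hg : ¬ p ∣ orderOf g) :
    (D.ν i : G → ℂ) g = (F : G → ℂ) g - 1 := by
  have h1 := D.reg_rel i hg
  rw [sum_z D (fun j => (j : G → ℂ) g), hA, hB, hε] at h1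
  simp only [Finset.sum_empty, Finset.sum_singleton] at h1
  have h2 : ((oneIrr G : IrrCharacter G) : G → ℂ) g = 1 := rfl
  rw [h2] at h1
  push_cast at h1
  linear_combination -h1

include hp2 hB hdeg in
theorem a_F : aP (hP := hP) hp2 F = 0 := by
  have h1 := deg_setB D hp2 (F_mem D hB)
  rw [hdeg] at h1
  have hp1 := hp.out.two_le
  have h2 : ((p - 1 : ℕ) : ℤ) = (p : ℤ) - 1 := by
    rw [Nat.cast_sub (by omega)]
    simp
  rw [h2] at h1
  have hp0 : (p : ℤ) ≠ 0 := by exact_mod_cast hp.out.ne_zero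
  have h3 : (p : ℤ) * (aP (hP := hP) hp2 F : ℤ) = 0 := by linarith
  have h4 := (mul_eq_zero.mp h3).resolve_left hp0
  exact_mod_cast h4

include hp2 hε hA hB hdeg in
theorem a_ν (i : Fin D.t) : aP (hP := hP) hp2 (D.ν i) = 1 := by
  have h1 := D.deg_ν hp2 i
  have h2 := D₀_add D hp2 hε hA hB hdeg
  rw [hε] at h1
  have hp0 : (p : ℤ) ≠ 0 := by exact_mod_cast hp.out.ne_zero
  have h3 : (p : ℤ) * ((aP (hP := hP) hp2 (D.ν i) : ℤ) - 1) = 0 := by
    have : (D.D₀ : ℤ) + 2 = p := by exact_mod_cast h2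
    push_cast at h1
    linarith
  have h4 := (mul_eq_zero.mp h3).resolve_left hp0
  have h5 : (aP (hP := hP) hp2 (D.ν i) : ℤ) = 1 := by linarith
  exact_mod_cast h5

variable {τ : G} (hττ : τ * τ = 1) (hinv : ∀ u ∈ P, τ * u * τ⁻¹ = u⁻¹) (hodd : p ≠ 2)

include hττ hodd in
omit [Fintype (IrrCharacter G)] [Fintype P] [Fintype (DD P p)] in
theorem τ_reg : ¬ p ∣ orderOf τ := by
  intro h
  have h1 : orderOf τ ∣ 2 := orderOf_dvd_of_pow_eq_one (by rw [pow_two, hττ])
  exact hodd ((Nat.prime_dvd_prime_iff_eq hp.out Nat.prime_two).mp (h.trans h1))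

include hp2 hB hdeg hττ hinv hodd in
/-- The value of `F` at `τ`. -/
theorem F_τ : (F : G → ℂ) τ = 0 := by
  have h0 := sum_P_eq (hP := hP) hp2 F
  rw [a_F D hp2 hB hdeg] at h0
  obtain ⟨c, hc, hb⟩ := bound_of_inverting hP hodd hττ hinv (isCharacter_of_isIrrCharacter F.2)
    (b := 0) (by simpa using h0)
  have h1 : c = 0 := by simpa using hb
  rw [hc, h1]
  simp

include hp2 hε hA hB hdeg hττ hinv hodd in
theorem ν_τ (i : Fin D.t) : (D.ν i : G → ℂ) τ = -1 := by
  rw [ν_eq D hε hA hB i (τ_reg hττ hodd), F_τ D hp2 hB hdeg hττ hinv hodd]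
  simp

include hp2 hC hε hA hB hdeg hττ hinv hodd in
/-- The class sum with `τ`. -/
theorem struct_τ {u : P} (hu : u ≠ 1) {g : G} (hg : ¬ p ∣ orderOf g) :
    ∑ χ : IrrCharacter G, (χ : G → ℂ) g * (χ : G → ℂ) τ * conj ((χ : G → ℂ) u) / (χ : G → ℂ) 1 =
      ((p : ℂ) - 1 - (F : G → ℂ) g) / ((p : ℂ) - 2) := by
  have hD := D₀_add D hp2 hε hA hB hdeg
  have hDc : (D.D₀ : ℂ) = (p : ℂ) - 2 := by
    have : ((D.D₀ + 2 : ℕ) : ℂ) = p := by rw [hD]
    push_cast at this
    linear_combination this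
  have hp1 := hp.out.two_le
  have hD0 : D.D₀ ≠ 0 := by
    intro h
    have h0 := charDegree_pos (D.ν ⟨0, D.t_pos⟩).2
    rw [D.hνdeg, h] at h0
    omega
  have hD0C : (p : ℂ) - 2 ≠ 0 := by
    rw [← hDc]
    exact_mod_cast hD0
  rw [sum_split D, hA, hB]
  simp only [Finset.sum_empty, Finset.sum_singleton]
  have h1 : ∀ x : G, ((oneIrr G : IrrCharacter G) : G → ℂ) x = 1 := fun x => rfl
  have hCC : ∑ j ∈ setC D, (j : G → ℂ) g * (j : G → ℂ) τ * conj ((j : G → ℂ) u) / (j : G → ℂ) 1 = 0 := by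
    apply Finset.sum_eq_zero
    intro j hj
    obtain ⟨h4, h5⟩ := (Finset.mem_filter.mp hj).2
    rw [D.val_other hp2 hC h4 h5 hu]
    simp
  have hν : ∑ i, (D.ν i : G → ℂ) g * (D.ν i : G → ℂ) τ * conj ((D.ν i : G → ℂ) u) / (D.ν i : G → ℂ) 1 =
      -((F : G → ℂ) g - 1) / ((p : ℂ) - 2) := by
    have h2 : ∀ i, (D.ν i : G → ℂ) g * (D.ν i : G → ℂ) τ * conj ((D.ν i : G → ℂ) u) / (D.ν i : G → ℂ) 1 =
        -((F : G → ℂ) g - 1) / ((p : ℂ) - 2) * conj ((D.ν i : G → ℂ) u) := by
      intro i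
      rw [ν_eq D hε hA hB i hg, ν_τ D hp2 hε hA hB hdeg hττ hinv hodd i, ν_one, hDc]
      ring
    simp only [h2]
    rw [← Finset.mul_sum, ← map_sum, sum_ν_val D hp2 hε hu]
    simp
  rw [hCC, hν, F_τ D hp2 hB hdeg hττ hinv hodd]
  simp only [h1, map_one]
  field_simp
  ring

include hp2 hC hε hA hB hdeg hττ hinv hodd in
/-- The values of `F` are integers. -/
theorem F_int (g : G) : ∃ x : ℤ, (F : G → ℂ) g = x := by
  have hχ := isCharacter_of_isIrrCharacter F.2
  by_cases hg : p ∣ orderOf g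
  · obtain ⟨x, hx, hx1⟩ := exists_conj_mem hP hp2 hC hg
    have h1 : (F : G → ℂ) g = (F : G → ℂ) (x⁻¹ * g * x) :=
      isClassFunction_iff_isConj.mp (isClassFunction_of_isCharacter hχ) _ _
        (isConj_iff.mpr ⟨x⁻¹, by group⟩)
    have h2 := F_val D hp2 hB (u := ⟨_, hx⟩) (fun h => hx1 (congrArg Subtype.val h))
    refine ⟨-1, ?_⟩
    rw [h1]
    push_cast
    exact h2
  · obtain ⟨u, hu⟩ := Cfsg.Agent.Lib.BrauerP.Data.exists_ne_one hP
    have h1 := count_eq g τ (u : G)
    rw [struct_τ D hp2 hC hε hA hB hdeg hττ hinv hodd hu hg] at h1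
    have hD := D₀_add D hp2 hε hA hB hdeg
    have hp1 := hp.out.two_le
    have hD0 : D.D₀ ≠ 0 := by
      intro h
      have h0 := charDegree_pos (D.ν ⟨0, D.t_pos⟩).2
      rw [D.hνdeg, h] at h0
      omega
    have hD0C : (p : ℂ) - 2 ≠ 0 := by
      have : ((D.D₀ + 2 : ℕ) : ℂ) = p := by rw [hD]
      push_cast at this
      rw [← this]
      simpa using hD0
    have hG0 : (Nat.card G : ℂ) ≠ 0 := card_ne_zero_complex
    set N := classProdCount g τ (u : G)
    set a := Nat.card (Subgroup.centralizer ({g} : Set G))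
    set b := Nat.card (Subgroup.centralizer ({τ} : Set G))
    set n := Nat.card G
    have hrat : (F : G → ℂ) g = (((p : ℚ) - 1 - ((p : ℚ) - 2) * ((N * a * b : ℕ) : ℚ) / (n : ℚ) : ℚ) : ℂ) := by
      push_cast
      field_simp at h1 ⊢
      linear_combination h1
    exact exists_int_of_rat (isIntegral_char hχ g) _ hrat

end Minus

end Cfsg.Agent.Lib.BrauerP.TwoE
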