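import Cfsg.Agent.Lib.BrauerP.TwoE.Basic

/-!
# The tensor square of `F` and the values of `F`

`⟨F², F⟩ = 1`, and a cubic sum shows that `F` takes on regular elements the values `0`, `1` and
`p - 1` only.
-/

set_option autoImplicit false
set_option linter.unusedSectionVars false
set_option linter.unusedVariables false

namespace Cfsg.Agent.Lib.BrauerP.TwoE

open Cfsg Module MulAction
open Cfsg.Agent.Lib.Char.Basic Cfsg.Agent.Lib.Char.Ortho Cfsg.Agent.Lib.Char.Complete
open Cfsg.Agent.Lib.Char.Degree Cfsg.Agent.Lib.Char.Induced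
open Cfsg.Agent.Lib.ExcP.Gram Cfsg.Agent.Lib.ExcP.Dual Cfsg.Agent.Lib.ExcP.Core
open Cfsg.Agent.Lib.ExcP.Inst Cfsg.Agent.Lib.ExcP.BlockHA
open Cfsg.Agent.Lib.BrauerP.Data Cfsg.Agent.Lib.BrauerP.Data.BD Cfsg.Agent.Lib.BrauerP.Frob
open Cfsg.Agent.Lib.BrauerP.Fourier Cfsg.Agent.Lib.BrauerP.Tuan
open Cfsg.Agent.Lib.Char.ClassProd Cfsg.Agent.Lib.Char.ClassSum
open scoped ComplexConjugate Classical

universe u

variable {G : Type u} [Group G] [Fintype G] [Fintype (IrrCharacter G)] {p : ℕ} [hp : Fact p.Prime]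
  {P : Subgroup G} {hP : Nat.card P = p} [Fintype P] [Fintype (DD P p)]

/-- Sums of irreducible characters over the group. -/
theorem sum_irr_mul_conj (χ ψ : IrrCharacter G) :
    ∑ g, (χ : G → ℂ) g * conj ((ψ : G → ℂ) g) = if χ = ψ then (Nat.card G : ℂ) else 0 := by
  have hG : (Nat.card G : ℂ) ≠ 0 := card_ne_zero_complex
  by_cases h : χ = ψ
  · subst h
    have h1 := classInner_self_of_isIrr χ.2
    rw [classInner_def] at h1
    rw [if_pos rfl]
    field_simp at h1
    linear_combination h1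
  · have h1 := classInner_eq_zero_of_isIrr_of_ne χ.2 ψ.2 (fun h2 => h (Subtype.ext h2))
    rw [classInner_def] at h1
    rw [if_neg h]
    exact (mul_eq_zero.mp h1).resolve_left (inv_ne_zero hG)

theorem sum_irr_of_ne {χ : IrrCharacter G} (h : χ ≠ oneIrr G) : ∑ g, (χ : G → ℂ) g = 0 := by
  have h1 := sum_irr_mul_conj χ (oneIrr G)
  rw [if_neg h] at h1
  simpa [oneIrr] using h1

section Minus

variable (D : BD P p 2 hP) (hp2 : ¬ p ^ 2 ∣ Nat.card G) (hC : Cn P = P) (hε : D.ε = -1)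
  {F : IrrCharacter G} (hA : setA D = ∅) (hB : setB D = {F}) (hdeg : charDegree (F : G → ℂ) = p - 1)
  {τ : G} (hττ : τ * τ = 1) (hinv : ∀ u ∈ P, τ * u * τ⁻¹ = u⁻¹) (hodd : p ≠ 2)

include hp2 hC hε hA hB hdeg hττ hinv hodd

theorem F_conj (g : G) : conj ((F : G → ℂ) g) = (F : G → ℂ) g := by
  obtain ⟨x, hx⟩ := F_int D hp2 hC hε hA hB hdeg hττ hinv hodd g
  rw [hx]
  simp

theorem sum_F_sq : ∑ g, (F : G → ℂ) g * (F : G → ℂ) g = (Nat.card G : ℂ) := by
  have h1 := sum_irr_mul_conj F F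
  rw [if_pos rfl] at h1
  simp only [F_conj D hp2 hC hε hA hB hdeg hττ hinv hodd] at h1
  exact h1

omit hp2 hC hε hA hdeg hττ hinv hodd in
include hB in
theorem sum_F : ∑ g, (F : G → ℂ) g = 0 := sum_irr_of_ne (F_ne_one D hB)

/-- The multiplicity of `F` in its square. -/
theorem exists_square : ∃ m : IrrCharacter G → ℕ,
    (∀ j : IrrCharacter G, classInner (fun g => (F : G → ℂ) g * (F : G → ℂ) g) (j : G → ℂ) = m j) ∧
    (∀ g, (F : G → ℂ) g * (F : G → ℂ) g = ∑ j : IrrCharacter G, (m j : ℂ) * (j : G → ℂ) g) ∧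
    m (oneIrr G) = 1 ∧ (∀ i, m (D.ν i) = m F) ∧ m F ≤ 1 := by
  have hχ := isCharacter_of_isIrrCharacter F.2
  have hγ : IsCharacter G (fun g => (F : G → ℂ) g * (F : G → ℂ) g) := isCharacter_mul hχ hχ
  obtain ⟨m, hm1, hm2⟩ := exists_decomp hγ
  have hG : (Nat.card G : ℂ) ≠ 0 := card_ne_zero_complex
  have hp0 : (p : ℂ) ≠ 0 := by exact_mod_cast hp.out.ne_zero
  have hp1 := hp.out.two_le
  -- the trivial character
  have hone : m (oneIrr G) = 1 := by
    have h1 := hm1 (oneIrr G)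
    rw [classInner_def] at h1
    have h2 : ∀ g : G, (F : G → ℂ) g * (F : G → ℂ) g * conj (((oneIrr G : IrrCharacter G) : G → ℂ) g) =
        (F : G → ℂ) g * (F : G → ℂ) g := by
      intro g
      simp [oneIrr]
    simp only [h2] at h1
    rw [sum_F_sq D hp2 hC hε hA hB hdeg hττ hinv hodd, inv_mul_cancel₀ hG] at h1
    exact_mod_cast h1.symm
  -- the exceptional characters
  have hνm : ∀ i, m (D.ν i) = m F := by
    intro i
    have hx := sg_indep D hp2 (fun i => (m (D.ν i) : ℂ) - (m F : ℂ)) (fun u hu => by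
      have h1 := tensor_val D hp2 hC hm2 hu
      rw [hA, hB, hone, F_val D hp2 hB hu] at h1
      simp only [Finset.sum_empty, Finset.sum_singleton, ν_val D hp2 hε hu] at h1
      have h2 := sum_all_sg D hp2 hu
      simp only [sub_mul, Finset.sum_sub_distrib]
      rw [← Finset.mul_sum, h2]
      simp only [mul_neg, Finset.sum_neg_distrib] at h1
      push_cast at h1
      linear_combination h1) i
    have h2 : (m (D.ν i) : ℂ) = (m F : ℂ) := sub_eq_zero.mp hx
    exact_mod_cast h2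
  refine ⟨m, hm1, hm2, hone, hνm, ?_⟩
  -- the multiplicities on `P`
  have hsumP : ∑ j, m j * aP (hP := hP) hp2 j = p - 1 := by
    have h1 := tensor_sumP (hP := hP) hp2 hm2
    have h2 : ∀ u : P, (F : G → ℂ) u * (F : G → ℂ) u =
        1 + if u = 1 then ((p : ℂ) - 1) ^ 2 - 1 else 0 := by
      intro u
      by_cases hu : u = 1
      · subst hu
        rw [if_pos rfl]
        have : (((1 : P) : G)) = 1 := rfl
        rw [this, ← charDegree_natCast hχ, hdeg, Nat.cast_sub (by omega)]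
        push_cast
        ring
      · rw [if_neg hu, F_val D hp2 hB hu]
        ring
    simp only [h2] at h1
    rw [Finset.sum_add_distrib, Finset.sum_ite_eq' Finset.univ (1 : P), if_pos (Finset.mem_univ _),
      Finset.sum_const, Finset.card_univ, ← Nat.card_eq_fintype_card, hP, nsmul_eq_mul] at h1
    have h3 : (p : ℂ) * (((p - 1 : ℕ) : ℂ)) = (p : ℂ) * ((∑ j, m j * aP (hP := hP) hp2 j : ℕ) : ℂ) := by
      rw [← h1, Nat.cast_sub (by omega)]
      push_cast
      ring
    have h4 := mul_left_cancel₀ hp0 h3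
    exact_mod_cast h4.symm
  -- the values at `τ`
  have hb : ∀ j : IrrCharacter G, ∃ c : ℤ, (j : G → ℂ) τ = c ∧ |c| ≤ aP (hP := hP) hp2 j := by
    intro j
    exact bound_of_inverting hP hodd hττ hinv (isCharacter_of_isIrrCharacter j.2) (sum_P_eq hp2 j)
  choose c hc hc2 using hb
  have hτ0 : ∑ j, (m j : ℤ) * c j = 0 := by
    have h1 := hm2 τ
    rw [F_τ D hp2 hB hdeg hττ hinv hodd] at h1
    simp only [hc] at h1
    have h2 : ((∑ j, (m j : ℤ) * c j : ℤ) : ℂ) = 0 := by
      push_cast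
      rw [← h1]
      ring
    exact_mod_cast h2
  have hsum : ∑ j, (m j : ℤ) * ((aP (hP := hP) hp2 j : ℤ) - c j) = (p : ℤ) - 1 := by
    simp only [mul_sub]
    rw [Finset.sum_sub_distrib, hτ0, sub_zero]
    have h1 : ((∑ j, m j * aP (hP := hP) hp2 j : ℕ) : ℤ) = ((p - 1 : ℕ) : ℤ) := by rw [hsumP]
    rw [Nat.cast_sub (by omega)] at h1
    push_cast at h1
    exact h1
  have hnn : ∀ j, 0 ≤ (m j : ℤ) * ((aP (hP := hP) hp2 j : ℤ) - c j) := by
    intro j
    apply mul_nonneg (by positivity)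
    have := (abs_le.mp (hc2 j)).2
    linarith
  have hcν : ∀ i, c (D.ν i) = -1 := by
    intro i
    have h1 := hc (D.ν i)
    rw [ν_τ D hp2 hε hA hB hdeg hττ hinv hodd i] at h1
    have h2 : ((c (D.ν i) : ℤ) : ℂ) = ((-1 : ℤ) : ℂ) := by
      rw [← h1]
      simp
    exact_mod_cast h2
  have hle : ∑ i, (m (D.ν i) : ℤ) * ((aP (hP := hP) hp2 (D.ν i) : ℤ) - c (D.ν i)) ≤ (p : ℤ) - 1 := by
    rw [← hsum, sum_split D (fun j => (m j : ℤ) * ((aP (hP := hP) hp2 j : ℤ) - c j))]
    have h1 : 0 ≤ ∑ j ∈ setA D, (m j : ℤ) * ((aP (hP := hP) hp2 j : ℤ) - c j) :=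
      Finset.sum_nonneg fun j _ => hnn j
    have h2 : 0 ≤ ∑ j ∈ setB D, (m j : ℤ) * ((aP (hP := hP) hp2 j : ℤ) - c j) :=
      Finset.sum_nonneg fun j _ => hnn j
    have h3 : 0 ≤ ∑ j ∈ setC D, (m j : ℤ) * ((aP (hP := hP) hp2 j : ℤ) - c j) :=
      Finset.sum_nonneg fun j _ => hnn j
    have h4 := hnn (oneIrr G)
    linarith
  have h5 : ∀ i, (m (D.ν i) : ℤ) * ((aP (hP := hP) hp2 (D.ν i) : ℤ) - c (D.ν i)) = 2 * (m F : ℤ) := by
    intro i
    rw [hνm i, a_ν D hp2 hε hA hB hdeg i, hcν i]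
    push_cast
    ring
  simp only [h5] at hle
  rw [Finset.sum_const, Finset.card_univ, Fintype.card_fin, nsmul_eq_mul] at hle
  have hte := D.hte
  have h6 : (p : ℤ) - 1 = (D.t : ℤ) * 2 := by
    have h7 : ((D.t * 2 : ℕ) : ℤ) = ((p - 1 : ℕ) : ℤ) := by rw [hte]
    rw [Nat.cast_sub (by omega)] at h7
    push_cast at h7
    linarith
  rw [h6] at hle
  have ht0 : (0 : ℤ) < D.t := by exact_mod_cast D.t_pos
  have h7 : (D.t : ℤ) * (m F : ℤ) ≤ (D.t : ℤ) * 1 := by linarith
  have h8 := le_of_mul_le_mul_left h7 ht0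
  exact_mod_cast h8

/-- **`⟨F², F⟩ = 1`**. -/
theorem mF_eq {m : IrrCharacter G → ℕ}
    (hm1 : ∀ j : IrrCharacter G, classInner (fun g => (F : G → ℂ) g * (F : G → ℂ) g) (j : G → ℂ) = m j)
    (hνm : ∀ i, m (D.ν i) = m F) (hle : m F ≤ 1) : m F = 1 := by
  have hχ := isCharacter_of_isIrrCharacter F.2
  obtain ⟨k⟩ : Nonempty (Fin D.t) := ⟨⟨0, D.t_pos⟩⟩
  have hχk := isCharacter_of_isIrrCharacter (D.ν k).2
  have hγ : IsCharacter G (fun g => (F : G → ℂ) g * (D.ν k : G → ℂ) g) := isCharacter_mul hχ hχk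
  obtain ⟨m', hm1', hm2'⟩ := exists_decomp hγ
  have hG : (Nat.card G : ℂ) ≠ 0 := card_ne_zero_complex
  have hFconj := F_conj D hp2 hC hε hA hB hdeg hττ hinv hodd
  -- the trivial character does not occur
  have hone : m' (oneIrr G) = 0 := by
    have h1 := hm1' (oneIrr G)
    rw [classInner_def] at h1
    have h2 : ∀ g : G, (F : G → ℂ) g * (D.ν k : G → ℂ) g * conj (((oneIrr G : IrrCharacter G) : G → ℂ) g) =
        (D.ν k : G → ℂ) g * conj ((F : G → ℂ) g) := by
      intro g
      rw [hFconj]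
      simp [oneIrr]
      ring
    simp only [h2] at h1
    have hne : D.ν k ≠ F := by
      intro h
      have h3 := D.hνz k
      rw [h, z_F D hB] at h3
      norm_num at h3
    rw [sum_irr_mul_conj, if_neg hne, mul_zero] at h1
    exact_mod_cast h1.symm
  -- the multiplicity of `F`
  have hmF : m' F = m F := by
    have h1 := hm1' F
    have h2 := hm1 (D.ν k)
    rw [hνm k] at h2
    rw [classInner_def] at h1 h2
    have h3 := congrArg conj h2
    rw [map_mul, map_inv₀, map_natCast, map_sum, map_natCast] at h3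
    have h4 : ∀ g : G, conj ((F : G → ℂ) g * (F : G → ℂ) g * conj ((D.ν k : G → ℂ) g)) =
        (F : G → ℂ) g * (D.ν k : G → ℂ) g * conj ((F : G → ℂ) g) := by
      intro g
      rw [map_mul, map_mul, Complex.conj_conj, hFconj]
      ring
    simp only [h4] at h3
    rw [h3] at h1
    exact_mod_cast h1.symm
  -- the values on `P`
  have hx := sg_indep D hp2 (fun i => (if i = k then (1 : ℂ) else 0) + (m' (D.ν i) : ℂ) - (m' F : ℂ))
    (fun u hu => by
      have h1 := tensor_val D hp2 hC hm2' hu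
      rw [hA, hB, hone, F_val D hp2 hB hu, ν_val D hp2 hε hu k] at h1
      simp only [Finset.sum_empty, Finset.sum_singleton, ν_val D hp2 hε hu] at h1
      have h2 := sum_all_sg D hp2 hu
      simp only [sub_mul, add_mul, Finset.sum_sub_distrib, Finset.sum_add_distrib, ite_mul, one_mul, zero_mul]
      rw [Finset.sum_ite_eq' Finset.univ k, if_pos (Finset.mem_univ _), ← Finset.mul_sum, h2]
      simp only [mul_neg, Finset.sum_neg_distrib] at h1
      push_cast at h1
      linear_combination h1) k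
  simp only [if_true] at hx
  have h2 : ((1 + m' (D.ν k) : ℕ) : ℂ) = (m' F : ℂ) := by
    push_cast
    linear_combination hx
  have h3 : 1 + m' (D.ν k) = m' F := by exact_mod_cast h2
  omega

/-- The cube of `F`. -/
theorem sum_F_cube : ∑ g, (F : G → ℂ) g * (F : G → ℂ) g * (F : G → ℂ) g = (Nat.card G : ℂ) := by
  obtain ⟨m, hm1, hm2, hone, hνm, hle⟩ := exists_square D hp2 hC hε hA hB hdeg hττ hinv hodd
  have h1 := mF_eq D hp2 hC hε hA hB hdeg hττ hinv hodd hm1 hνm hle
  have h2 := hm1 F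
  rw [h1, classInner_def] at h2
  simp only [F_conj D hp2 hC hε hA hB hdeg hττ hinv hodd] at h2
  have hG : (Nat.card G : ℂ) ≠ 0 := card_ne_zero_complex
  push_cast at h2
  rw [inv_mul_eq_iff_eq_mul₀ hG, mul_one] at h2
  exact h2

/-- **The values of `F` on regular elements.** -/
theorem reg_vals {g : G} (hg : ¬ p ∣ orderOf g) :
    (F : G → ℂ) g = 0 ∨ (F : G → ℂ) g = 1 ∨ (F : G → ℂ) g = (p : ℂ) - 1 := by
  have hχ := isCharacter_of_isIrrCharacter F.2
  have hcf := isClassFunction_iff_isConj.mp (isClassFunction_of_isCharacter hχ)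
  have hp1 := hp.out.two_le
  have hte := D.hte
  have h2t : (2 : ℂ) * (D.t : ℂ) = (p : ℂ) - 1 := by
    have h7 : ((D.t * 2 : ℕ) : ℂ) = ((p - 1 : ℕ) : ℂ) := by rw [hte]
    rw [Nat.cast_sub (by omega)] at h7
    push_cast at h7
    linear_combination h7
  have hint := F_int D hp2 hC hε hA hB hdeg hττ hinv hodd
  choose x hx using hint
  -- the function `B`
  let B : G → ℂ := fun a => (∑ i, (D.ν i : G → ℂ) a) - (D.t : ℂ) * (F : G → ℂ) a + (D.t : ℂ)
  have hBreg : ∀ a : G, ¬ p ∣ orderOf a → B a = 0 := by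
    intro a ha
    simp only [B]
    simp only [ν_eq D hε hA hB _ ha]
    rw [Finset.sum_const, Finset.card_univ, Fintype.card_fin, nsmul_eq_mul]
    ring
  have hsing : ∀ a : G, p ∣ orderOf a → (F : G → ℂ) a = -1 ∧ B a = (p : ℂ) := by
    intro a ha
    obtain ⟨y, hy, hy1⟩ := exists_conj_mem hP hp2 hC ha
    have hcj : IsConj a (y⁻¹ * a * y) := isConj_iff.mpr ⟨y⁻¹, by group⟩
    have h1 : (F : G → ℂ) a = -1 := by
      rw [hcf _ _ hcj]
      exact F_val D hp2 hB (u := ⟨_, hy⟩) (fun h => hy1 (congrArg Subtype.val h))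
    refine ⟨h1, ?_⟩
    simp only [B]
    rw [h1]
    have h2 : ∑ i, (D.ν i : G → ℂ) a = 1 := by
      have h3 : ∀ i, (D.ν i : G → ℂ) a = (D.ν i : G → ℂ) (y⁻¹ * a * y) := fun i =>
        isClassFunction_iff_isConj.mp (isClassFunction_of_isCharacter
          (isCharacter_of_isIrrCharacter (D.ν i).2)) _ _ hcj
      simp only [h3]
      exact sum_ν_val D hp2 hε (u := ⟨_, hy⟩) (fun h => hy1 (congrArg Subtype.val h))
    rw [h2]
    linear_combination h2t
  have hsumB : ∑ a, B a = (D.t : ℂ) * (Nat.card G : ℂ) := by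
    simp only [B]
    rw [Finset.sum_add_distrib, Finset.sum_sub_distrib, Finset.sum_comm, ← Finset.mul_sum,
      sum_F D hB, Finset.sum_const, Finset.card_univ, ← Nat.card_eq_fintype_card, nsmul_eq_mul]
    have h1 : ∀ i, ∑ a, (D.ν i : G → ℂ) a = 0 := fun i => sum_irr_of_ne (by
      intro h
      have h3 := D.hνz i
      rw [h, D.hzone] at h3
      norm_num at h3)
    simp only [h1]
    simp
    ring
  -- the integer function
  let T : G → ℤ := fun a => x a * (x a - 1) * (x a - ((p : ℤ) - 1)) +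
    2 * (if p ∣ orderOf a then (p : ℤ) else 0)
  have hTc : ∀ a, ((T a : ℤ) : ℂ) = (F : G → ℂ) a * (F : G → ℂ) a * (F : G → ℂ) a -
      (p : ℂ) * ((F : G → ℂ) a * (F : G → ℂ) a) + ((p : ℂ) - 1) * (F : G → ℂ) a + 2 * B a := by
    intro a
    simp only [T]
    by_cases ha : p ∣ orderOf a
    · rw [if_pos ha, (hsing a ha).2]
      push_cast
      rw [hx a]
      ring
    · rw [if_neg ha, hBreg a ha]
      push_cast
      rw [hx a]
      ring
  have hTsum : ∑ a, T a = 0 := by
    have h1 : ((∑ a, T a : ℤ) : ℂ) = 0 := by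
      push_cast
      simp only [hTc]
      rw [Finset.sum_add_distrib, Finset.sum_add_distrib, Finset.sum_sub_distrib, ← Finset.mul_sum,
        ← Finset.mul_sum, ← Finset.mul_sum, sum_F_cube D hp2 hC hε hA hB hdeg hττ hinv hodd,
        sum_F_sq D hp2 hC hε hA hB hdeg hττ hinv hodd, sum_F D hB, hsumB]
      linear_combination (Nat.card G : ℂ) * h2t
    exact_mod_cast h1
  have hxle : ∀ a, x a ≤ (p : ℤ) - 1 := by
    intro a
    have h1 := norm_le_charDegree hχ a
    rw [hx a, hdeg, Complex.norm_intCast, Nat.cast_sub (by omega)] at h1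
    have h2 : ((x a : ℤ) : ℝ) ≤ ((p : ℤ) : ℝ) - 1 := by
      have := le_abs_self ((x a : ℤ) : ℝ)
      push_cast at h1 ⊢
      linarith
    exact_mod_cast h2
  have hTle : ∀ a, T a ≤ 0 := by
    intro a
    simp only [T]
    by_cases ha : p ∣ orderOf a
    · rw [if_pos ha]
      have h1 : x a = -1 := by
        have h2 := (hsing a ha).1
        rw [hx a] at h2
        exact_mod_cast h2
      rw [h1]
      ring_nf
      exact le_refl _
    · rw [if_neg ha]
      have h1 : 0 ≤ x a * (x a - 1) := by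
        rcases le_or_gt (x a) 0 with h | h
        · exact mul_nonneg_of_nonpos_of_nonpos h (by linarith)
        · exact mul_nonneg (by linarith) (by linarith)
      have h2 := hxle a
      nlinarith
  have hT0 : T g = 0 := by
    have h1 := (Finset.sum_eq_zero_iff_of_nonpos (fun a _ => hTle a)).mp hTsum
    exact h1 g (Finset.mem_univ _)
  simp only [T] at hT0
  rw [if_neg hg] at hT0
  have h3 : x g * (x g - 1) * (x g - ((p : ℤ) - 1)) = 0 := by linarith
  rw [hx g]
  rcases mul_eq_zero.mp h3 with h4 | h4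
  · rcases mul_eq_zero.mp h4 with h5 | h5
    · left
      rw [h5]
      simp
    · right; left
      have : x g = 1 := by linarith
      rw [this]
      simp
  · right; right
    have : x g = (p : ℤ) - 1 := by linarith
    rw [this]
    simp

end Minus

end Cfsg.Agent.Lib.BrauerP.TwoE
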