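import Cfsg.Agent.Lib.BrauerP.TwoE.Z1
import Cfsg.Agent.Lib.BrauerP.TwoE.Deg2pCore
import Cfsg.Agent.S0740
import Cfsg.Agent.S0494

/-!
# Primitive groups of degree `2 p` with `|N(P)| = 2 p`: the block-theoretic part
-/

set_option autoImplicit false
set_option linter.unusedSectionVars false
set_option linter.unusedVariables false
set_option linter.style.haveILetI false
set_option linter.unusedSimpArgs false

namespace Cfsg.Agent.Lib.BrauerP.TwoE

open Cfsg Module MulAction
open Cfsg.Agent.Lib.Char.Basic Cfsg.Agent.Lib.Char.Ortho Cfsg.Agent.Lib.Char.Complete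
open Cfsg.Agent.Lib.Char.Degree Cfsg.Agent.Lib.Char.Induced
open Cfsg.Agent.Lib.ExcP.Gram Cfsg.Agent.Lib.ExcP.Dual Cfsg.Agent.Lib.ExcP.Core
open Cfsg.Agent.Lib.ExcP.Inst Cfsg.Agent.Lib.ExcP.BlockHA
open Cfsg.Agent.Lib.BrauerP.Data Cfsg.Agent.Lib.BrauerP.Data.BD Cfsg.Agent.Lib.BrauerP.Frob
open Cfsg.Agent.Lib.BrauerP.Fourier Cfsg.Agent.Lib.BrauerP.Tuan
open Cfsg.Agent.Lib.Char.ClassProd Cfsg.Agent.Lib.Char.ClassSum
open scoped ComplexConjugate Classical

universe u v

section Prim

variable {G : Type u} [Group G] [Finite G] {α : Type v} [Fintype α] [MulAction G α]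

/-- A nontrivial normal subgroup of a primitive group has order divisible by the degree. -/
theorem card_dvd_of_normal [IsPreprimitive G α] (hfaith : ∀ g : G, (∀ a : α, g • a = a) → g = 1)
    (N : Subgroup G) [N.Normal] (hN : N ≠ ⊥) : Fintype.card α ∣ Nat.card N := by
  obtain ⟨g, hg, hg1⟩ := N.bot_or_exists_ne_one.resolve_left hN
  obtain ⟨a, ha⟩ : ∃ a : α, g • a ≠ a := by
    by_contra hcon
    push Not at hcon
    exact hg1 (hfaith g hcon)
  have hfix : fixedPoints N α ≠ Set.univ := by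
    intro h
    have h1 : a ∈ fixedPoints N α := by
      rw [h]
      exact Set.mem_univ a
    exact ha (h1 ⟨g, hg⟩)
  have htr : IsPretransitive N α := IsQuasiPreprimitive.isPretransitive_of_normal hfix
  have h1 : (stabilizer N a).index = Fintype.card α := by
    rw [index_stabilizer, orbit_eq_univ, Set.ncard_univ, Nat.card_eq_fintype_card]
  rw [← h1]
  exact Subgroup.index_dvd_card _

variable {p : ℕ} [hp : Fact p.Prime]

/-- A Sylow subgroup with `|N(P)| = 2 p` is not normal. -/
theorem not_normal_sylow [IsPreprimitive G α] (hfaith : ∀ g : G, (∀ a : α, g • a = a) → g = 1)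
    (hα : Fintype.card α = 2 * p) (hodd : p ≠ 2) (Q : Sylow p G)
    (hN : Nat.card (Subgroup.normalizer ((Q : Subgroup G) : Set G)) = 2 * p) : ¬ (Q : Subgroup G).Normal := by
  intro hn
  have hpG : p ∣ Nat.card G := by
    have h1 : p ∣ Nat.card (Subgroup.normalizer ((Q : Subgroup G) : Set G)) := by
      rw [hN]
      exact dvd_mul_left p 2
    exact h1.trans (Subgroup.card_subgroup_dvd_card _)
  have hQ1 : (Q : Subgroup G) ≠ ⊥ := Q.ne_bot_of_dvd_card hpG
  have h1 := card_dvd_of_normal hfaith (Q : Subgroup G) hQ1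
  rw [hα] at h1
  obtain ⟨k, hk⟩ := IsPGroup.iff_card.mp Q.isPGroup'
  have h2 : 2 ∣ p ^ k := by
    rw [← hk]
    exact (dvd_mul_right 2 p).trans h1
  have h3 : 2 ∣ p := Nat.prime_two.dvd_of_dvd_pow h2
  exact hodd ((Nat.prime_dvd_prime_iff_eq Nat.prime_two hp.out).mp h3).symm

/-- The centralizer of a Sylow subgroup with `|N(P)| = 2 p`. -/
theorem cent_sylow [IsPreprimitive G α] (hfaith : ∀ g : G, (∀ a : α, g • a = a) → g = 1)
    (hα : Fintype.card α = 2 * p) (hodd : p ≠ 2) (Q : Sylow p G)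
    (hN : Nat.card (Subgroup.normalizer ((Q : Subgroup G) : Set G)) = 2 * p) (hQc : Nat.card Q = p) :
    Subgroup.centralizer ((Q : Subgroup G) : Set G) = Q := by
  have hnn := not_normal_sylow hfaith hα hodd Q hN
  have hle : (Q : Subgroup G) ≤ Subgroup.centralizer ((Q : Subgroup G) : Set G) := by
    intro x hx
    rw [Subgroup.mem_centralizer_iff]
    intro y hy
    exact congrArg Subtype.val (comm_of_card hQc ⟨y, hy⟩ ⟨x, hx⟩)
  by_contra hne
  have hCN : Subgroup.centralizer ((Q : Subgroup G) : Set G) ≤ Subgroup.normalizer ((Q : Subgroup G) : Set G) :=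
    Subgroup.centralizer_le_normalizer _
  have hNC : Subgroup.normalizer ((Q : Subgroup G) : Set G) ≤ Subgroup.centralizer ((Q : Subgroup G) : Set G) := by
    have h1 : Nat.card (Subgroup.centralizer ((Q : Subgroup G) : Set G)) ∣ 2 * p := by
      rw [← hN]
      exact Subgroup.card_dvd_of_le hCN
    have h2 : p ∣ Nat.card (Subgroup.centralizer ((Q : Subgroup G) : Set G)) := by
      have h3 := Subgroup.card_dvd_of_le hle
      rwa [hQc] at h3
    obtain ⟨c, hc⟩ := h2
    have hpos := hp.out.pos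
    have h3 : c ∣ 2 := by
      rw [hc, mul_comm p c] at h1
      exact Nat.dvd_of_mul_dvd_mul_right hpos h1
    have h4 : c = 1 ∨ c = 2 := (Nat.dvd_prime Nat.prime_two).mp h3
    rcases h4 with rfl | rfl
    · exfalso
      apply hne
      symm
      apply Subgroup.eq_of_le_of_card_ge hle
      rw [hc, hQc, mul_one]
    · have h5 : Nat.card (Subgroup.centralizer ((Q : Subgroup G) : Set G)) =
          Nat.card (Subgroup.normalizer ((Q : Subgroup G) : Set G)) := by
        rw [hc, hN, mul_comm]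
      exact (Subgroup.eq_of_le_of_card_ge hCN h5.ge).ge
  have hK := MonoidHom.not_dvd_card_ker_transferSylow (p := p) Q hNC
  have hC := MonoidHom.ker_transferSylow_isComplement' (p := p) Q hNC
  set K := (MonoidHom.transferSylow Q hNC).ker with hKdef
  have hKn : K.Normal := MonoidHom.normal_ker _
  by_cases hK0 : K = ⊥
  · apply hnn
    have h1 := hC.card_mul_card
    rw [hK0] at h1
    have h2 : Nat.card (⊥ : Subgroup G) = 1 := Subgroup.card_bot
    rw [h2, one_mul] at h1
    rw [Subgroup.eq_top_of_card_eq _ h1]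
    exact Subgroup.normal_top
  · have h1 := card_dvd_of_normal hfaith K hK0
    rw [hα] at h1
    exact hK ((dvd_mul_left p 2).trans h1)

/-- Two orbits on pairs give double transitivity. -/
theorem two_trans_of_card_orbits (h : Nat.card (orbitRel.Quotient G (α × α)) = 2) :
    IsMultiplyPretransitive G α 2 := by
  rw [is_two_pretransitive_iff]
  intro x y x' y' hxy hxy'
  let mk : α × α → orbitRel.Quotient G (α × α) := fun q => Quotient.mk'' q
  have hmk : ∀ q q' : α × α, mk q = mk q' → ∃ g : G, g • q' = q := by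
    intro q q' hqq
    have h1 : orbitRel G (α × α) q q' := Quotient.exact hqq
    rw [orbitRel_apply] at h1
    obtain ⟨g, hg⟩ := h1
    exact ⟨g, hg⟩
  have hdiag : ∀ z w : α, z ≠ w → mk (x, x) ≠ mk (z, w) := by
    intro z w hzw heq
    obtain ⟨g, hg⟩ := hmk _ _ heq
    have h1 : g • z = x := congrArg Prod.fst hg
    have h2 : g • w = x := congrArg Prod.snd hg
    exact hzw (MulAction.injective g (h1.trans h2.symm))
  obtain ⟨q1, q2, hq, huniv⟩ := Nat.card_eq_two_iff.mp h
  have hmem : ∀ q : orbitRel.Quotient G (α × α), q = q1 ∨ q = q2 := by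
    intro q
    have h1 : q ∈ ({q1, q2} : Set _) := by
      rw [huniv]
      exact Set.mem_univ q
    simpa using h1
  have heq : mk (x', y') = mk (x, y) := by
    rcases hmem (mk (x, x)) with h0 | h0 <;> rcases hmem (mk (x, y)) with h1 | h1 <;>
      rcases hmem (mk (x', y')) with h2 | h2
    · exact absurd (h0.trans h1.symm) (hdiag _ _ hxy)
    · exact absurd (h0.trans h1.symm) (hdiag _ _ hxy)
    · exact absurd (h0.trans h2.symm) (hdiag _ _ hxy')
    · rw [h1, h2]
    · rw [h1, h2]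
    · exact absurd (h0.trans h2.symm) (hdiag _ _ hxy')
    · exact absurd (h0.trans h1.symm) (hdiag _ _ hxy)
    · exact absurd (h0.trans h1.symm) (hdiag _ _ hxy)
  obtain ⟨g, hg⟩ := hmk _ _ heq
  exact ⟨g, congrArg Prod.fst hg, congrArg Prod.snd hg⟩

/-- The number of orbits on pairs. -/
theorem card_orbits_of_sum [Fintype G] (h : ∑ g : G, Nat.card (fixedBy α g) * Nat.card (fixedBy α g) = 2 * Nat.card G) :
    Nat.card (orbitRel.Quotient G (α × α)) = 2 := by
  classical
  letI : Fintype (orbitRel.Quotient G (α × α)) := Fintype.ofFinite _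
  have h4 := sum_card_fixedBy_eq_card_orbits_mul_card_group G (α × α)
  have h5' : ∀ g : G, Fintype.card (fixedBy (α × α) g) =
      Nat.card (fixedBy α g) * Nat.card (fixedBy α g) := by
    intro g
    rw [← Nat.card_eq_fintype_card, ← Nat.card_prod]
    apply Nat.card_congr
    refine ⟨fun p => (⟨p.1.1, ?_⟩, ⟨p.1.2, ?_⟩), fun p => ⟨(p.1.1, p.2.1), ?_⟩, ?_, ?_⟩
    · exact (Prod.ext_iff.1 p.2).1
    · exact (Prod.ext_iff.1 p.2).2
    · exact Prod.ext p.1.2 p.2.2
    · intro p
      rfl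
    · intro p
      rfl
  simp only [h5'] at h4
  rw [h, Nat.card_eq_fintype_card (α := G)] at h4
  rw [Nat.card_eq_fintype_card]
  have hpos : 0 < Fintype.card G := Fintype.card_pos
  exact (Nat.eq_of_mul_eq_mul_right hpos h4).symm

end Prim

section Block

variable {G : Type u} [Group G] [Fintype G] [Fintype (IrrCharacter G)] {p : ℕ} [hp : Fact p.Prime]
  {P : Subgroup G} {hP : Nat.card P = p} [Fintype P] [Fintype (DD P p)]

variable (D : BD P p 2 hP) (hp2 : ¬ p ^ 2 ∣ Nat.card G)

include hp2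

/-- Decomposition of a character of degree `2 p` with `γ u = f₀` on `P \ {1}`, when `B = {F}`. -/
theorem decomp2_B (hp5 : 3 < p) (hC : Cn P = P) {F : IrrCharacter G} (hA : setA D = ∅) (hB : setB D = {F})
    {γ : G → ℂ} {m : IrrCharacter G → ℕ} (hm : ∀ g, γ g = ∑ j : IrrCharacter G, (m j : ℂ) * (j : G → ℂ) g)
    (hone : m (oneIrr G) = 1) (hd : γ 1 = ((2 * p : ℕ) : ℂ)) {f₀ : ℕ} (h0 : ∀ u : P, u ≠ 1 → γ u = f₀)
    (hf : f₀ = 0 ∨ f₀ = p) :
    (∀ g, γ g = 1 + (F : G → ℂ) g) ∨ (charDegree (F : G → ℂ) = p - 1 ∧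
      ∃ ψ ∈ setC D, charDegree (ψ : G → ℂ) = p ∧ ∀ g, γ g = 1 + (F : G → ℂ) g + (ψ : G → ℂ) g) := by
  have hε := ε_of_B D hA hB
  have hp1 := hp.out.two_le
  have hνm : ∀ i, m (D.ν i) + 1 = m F + f₀ := by
    intro i
    have hx := sg_indep D hp2 (fun i => (m (D.ν i) : ℂ) + 1 - (m F : ℂ) - (f₀ : ℂ)) (fun u hu => by
      have h1 := tensor_val D hp2 hC hm hu
      rw [hA, hB, hone, h0 u hu] at h1
      simp only [Finset.sum_empty, Finset.sum_singleton, ν_val D hp2 hε hu] at h1
      have h2 := sum_all_sg D hp2 hu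
      simp only [sub_mul, add_mul, one_mul, Finset.sum_sub_distrib, Finset.sum_add_distrib]
      rw [← Finset.mul_sum, ← Finset.mul_sum, h2]
      simp only [mul_neg, Finset.sum_neg_distrib] at h1
      push_cast at h1
      linear_combination h1) i
    have h2 : ((m (D.ν i) + 1 : ℕ) : ℂ) = ((m F + f₀ : ℕ) : ℂ) := by
      push_cast
      linear_combination hx
    exact_mod_cast h2
  have hdeg := tensor_deg hm
  rw [hd] at hdeg
  have hsum : ∑ j, m j * charDegree (j : G → ℂ) = 2 * p := by exact_mod_cast hdeg.symm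
  rw [sum_split D, hA, hB, charDegree_oneIrr, hone] at hsum
  simp only [Finset.sum_empty, Finset.sum_singleton, D.hνdeg] at hsum
  have hrel := rel_gen D
  rw [hA, hB, Finset.sum_empty, Finset.sum_singleton, hε] at hrel
  have hdF := deg_setB D hp2 (F_mem D hB)
  set a := aP (hP := hP) hp2 F with ha
  set d := charDegree (F : G → ℂ) with hd'
  have hdF' : d + 1 = (a + 1) * p := by
    have : (d : ℤ) + 1 = ((a : ℤ) + 1) * p := by
      rw [hdF]
      ring
    exact_mod_cast this
  have hD₀ : D.D₀ + 1 = d := by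
    push_cast at hrel
    omega
  have hte := D.hte
  have ht2 : 2 ≤ D.t := by
    rcases hp.out.eq_two_or_odd with h | h <;> omega
  obtain ⟨i₀⟩ : Nonempty (Fin D.t) := ⟨⟨0, D.t_pos⟩⟩
  set mν := m (D.ν i₀) with hmν
  have hνc : ∀ i, m (D.ν i) = mν := by
    intro i
    have h1 := hνm i
    have h2 := hνm i₀
    omega
  simp only [hνc] at hsum
  rw [Finset.sum_const, Finset.card_univ, Fintype.card_fin, smul_eq_mul] at hsum
  set S := ∑ j ∈ D.setC, m j * charDegree (j : G → ℂ) with hS
  have hp' : p = 2 * D.t + 1 := by omega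
  have hdge : p ≤ d + 1 := by
    rw [hdF']
    nlinarith
  have hD3 : 3 ≤ D.D₀ := by omega
  have hf0 : f₀ = 0 := by
    rcases hf with h | h
    · exact h
    · exfalso
      have h1 := hνm i₀
      rw [h] at h1
      have h2 : 2 * D.t ≤ mν := by omega
      have h4 : (2 * D.t) * 3 ≤ mν * D.D₀ := Nat.mul_le_mul h2 hD3
      have h5 : D.t * ((2 * D.t) * 3) ≤ D.t * (mν * D.D₀) := Nat.mul_le_mul_left _ h4
      nlinarith
  have hmF : m F = 1 := by
    have h1 := hνm i₀
    rw [hf0] at h1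
    by_contra hne
    have h3 : 2 ≤ m F := by omega
    have h4 : 1 ≤ mν := by omega
    have h5 : 2 * d ≤ m F * d := Nat.mul_le_mul_right _ h3
    have h6 : 1 * D.D₀ ≤ mν * D.D₀ := Nat.mul_le_mul_right _ h4
    have h7 : D.t * (1 * D.D₀) ≤ D.t * (mν * D.D₀) := Nat.mul_le_mul_left _ h6
    have h8 : 2 * 3 ≤ D.t * D.D₀ := Nat.mul_le_mul ht2 hD3
    rw [one_mul] at h7
    omega
  have hmν : mν = 0 := by
    have h1 := hνm i₀
    rw [hf0, hmF] at h1
    omega
  rw [hmF, hmν] at hsum
  simp only [zero_mul, mul_zero, one_mul, zero_add, add_zero] at hsum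
  have hval : ∀ g, γ g = 1 + (F : G → ℂ) g + ∑ j ∈ setC D, (m j : ℂ) * (j : G → ℂ) g := by
    intro g
    rw [hm g, sum_split D, hA, hB, hone]
    simp only [Finset.sum_empty, Finset.sum_singleton, hνc, hmν, hmF]
    simp [oneIrr]
    ring
  have hS2 : (a + 1) * p + S = 2 * p := by omega
  have ha1 : a + 1 ≤ 2 := by
    have h1 : (a + 1) * p ≤ 2 * p := by omega
    exact Nat.le_of_mul_le_mul_right h1 hp.out.pos
  have hcases : a = 1 ∨ a = 0 := by omega
  rcases hcases with ha1 | ha0
  · left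
    have hS0 : S = 0 := by
      rw [ha1] at hS2
      omega
    have hzero : ∀ j ∈ setC D, m j = 0 := by
      intro j hj
      have h1 := (Finset.sum_eq_zero_iff_of_nonneg (fun _ _ => Nat.zero_le _)).mp hS0 j hj
      rcases mul_eq_zero.mp h1 with h2 | h2
      · exact h2
      · exact absurd h2 (charDegree_pos j.2).ne'
    intro g
    rw [hval g, Finset.sum_eq_zero (fun j hj => by rw [hzero j hj]; simp), add_zero]
  · right
    have hSp : S = p := by
      rw [ha0] at hS2
      omega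
    have hd1 : d = p - 1 := by
      rw [ha0] at hdF'
      omega
    refine ⟨hd1, ?_⟩
    have hne : S ≠ 0 := by
      rw [hSp]
      exact hp.out.ne_zero
    obtain ⟨ψ, hψ, hψ0⟩ := Finset.exists_ne_zero_of_sum_ne_zero hne
    have hm0 : m ψ ≠ 0 := fun h => hψ0 (by rw [h, zero_mul])
    obtain ⟨ha₀, hdψ⟩ := deg_setC D hp2 hC hψ
    have hle : m ψ * charDegree (ψ : G → ℂ) ≤ S := by
      rw [hS]
      exact Finset.single_le_sum (f := fun j => m j * charDegree (j : G → ℂ)) (fun _ _ => Nat.zero_le _) hψ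
    have hmψ : m ψ = 1 ∧ aP (hP := hP) hp2 ψ = 1 := by
      rw [hSp, hdψ] at hle
      have h1 : m ψ * aP (hP := hP) hp2 ψ ≤ 1 := by
        have h2 : p * (m ψ * aP (hP := hP) hp2 ψ) ≤ p * 1 := by
          calc p * (m ψ * aP (hP := hP) hp2 ψ) = m ψ * (p * aP (hP := hP) hp2 ψ) := by ring
            _ ≤ p := hle
            _ = p * 1 := (mul_one p).symm
        exact Nat.le_of_mul_le_mul_left h2 hp.out.pos
      have h3 : 1 ≤ m ψ := Nat.pos_of_ne_zero hm0
      have h4 : m ψ ≤ m ψ * aP (hP := hP) hp2 ψ := Nat.le_mul_of_pos_right _ (by omega)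
      have h5 : aP (hP := hP) hp2 ψ ≤ m ψ * aP (hP := hP) hp2 ψ := Nat.le_mul_of_pos_left _ (by omega)
      constructor <;> omega
    have hdeg1 : charDegree (ψ : G → ℂ) = p := by
      rw [hdψ, hmψ.2, mul_one]
    refine ⟨ψ, hψ, hdeg1, ?_⟩
    have hrest : ∀ j ∈ setC D, j ≠ ψ → m j = 0 := by
      intro j hj hjψ
      have h1 := Finset.add_sum_erase (setC D) (fun j => m j * charDegree (j : G → ℂ)) hψ
      rw [hmψ.1, hdeg1, one_mul] at h1
      have h2 : ∑ j ∈ (setC D).erase ψ, m j * charDegree (j : G → ℂ) = 0 := by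
        have : p + ∑ j ∈ (setC D).erase ψ, m j * charDegree (j : G → ℂ) = S := h1
        omega
      have h3 := (Finset.sum_eq_zero_iff_of_nonneg (fun _ _ => Nat.zero_le _)).mp h2 j
        (Finset.mem_erase.mpr ⟨hjψ, hj⟩)
      rcases mul_eq_zero.mp h3 with h4 | h4
      · exact h4
      · exact absurd h4 (charDegree_pos j.2).ne'
    intro g
    rw [hval g, Finset.sum_eq_single_of_mem ψ hψ (fun j hj hjψ => by rw [hrest j hj hjψ]; simp), hmψ.1]
    simp

/-- Decomposition of a character of degree `2 p` with `γ u = f₀` on `P \ {1}`, when `A = {F}`. -/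
theorem decomp2_A (hp5 : 3 < p) (hC : Cn P = P) {F : IrrCharacter G} (hA : setA D = {F}) (hB : setB D = ∅)
    {γ : G → ℂ} {m : IrrCharacter G → ℕ} (hm : ∀ g, γ g = ∑ j : IrrCharacter G, (m j : ℂ) * (j : G → ℂ) g)
    (hone : m (oneIrr G) = 1) (hd : γ 1 = ((2 * p : ℕ) : ℂ)) {f₀ : ℕ} (h0 : ∀ u : P, u ≠ 1 → γ u = f₀)
    (hf : f₀ = 0 ∨ f₀ = p) : charDegree (F : G → ℂ) = 1 := by
  obtain ⟨hε, hD⟩ := ε_of_A D hA hB
  have hp1 := hp.out.two_le
  have hνm : ∀ i, m (D.ν i) + f₀ = 1 + m F := by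
    intro i
    have hx := sg_indep D hp2 (fun i => (m (D.ν i) : ℂ) + (f₀ : ℂ) - 1 - (m F : ℂ)) (fun u hu => by
      have h1 := tensor_val D hp2 hC hm hu
      rw [hA, hB, hone, h0 u hu] at h1
      simp only [Finset.sum_empty, Finset.sum_singleton] at h1
      have h3 : ∀ i, (D.ν i : G → ℂ) u = sg D i u := by
        intro i
        rw [val_ν' D hp2 i hu, hε]
        simp
      simp only [h3] at h1
      have h2 := sum_all_sg D hp2 hu
      simp only [sub_mul, add_mul, one_mul, Finset.sum_sub_distrib, Finset.sum_add_distrib]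
      rw [← Finset.mul_sum, ← Finset.mul_sum, h2]
      push_cast at h1
      linear_combination -h1) i
    have h2 : ((m (D.ν i) + f₀ : ℕ) : ℂ) = ((1 + m F : ℕ) : ℂ) := by
      push_cast
      linear_combination hx
    exact_mod_cast h2
  have hdeg := tensor_deg hm
  rw [hd] at hdeg
  have hsum : ∑ j, m j * charDegree (j : G → ℂ) = 2 * p := by exact_mod_cast hdeg.symm
  rw [sum_split D, hA, hB, charDegree_oneIrr, hone] at hsum
  simp only [Finset.sum_empty, Finset.sum_singleton, D.hνdeg] at hsum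
  have hzF : D.z F = -1 := by
    have : F ∈ setA D := by rw [hA]; exact Finset.mem_singleton_self F
    exact (Finset.mem_filter.mp this).2.1
  have hdF := D.deg_z hp2 (j := F) (by rw [hzF]; norm_num)
  rw [hzF] at hdF
  set a := aP (hP := hP) hp2 F with ha
  set d := charDegree (F : G → ℂ) with hd'
  have hd0 : 0 < d := charDegree_pos F.2
  have hte := D.hte
  have ht2 : 2 ≤ D.t := by
    rcases hp.out.eq_two_or_odd with h | h <;> omega
  have hp' : p = 2 * D.t + 1 := by omega
  obtain ⟨i₀⟩ : Nonempty (Fin D.t) := ⟨⟨0, D.t_pos⟩⟩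
  set mν := m (D.ν i₀) with hmν
  have hνc : ∀ i, m (D.ν i) = mν := by
    intro i
    have h1 := hνm i
    have h2 := hνm i₀
    omega
  simp only [hνc] at hsum
  rw [Finset.sum_const, Finset.card_univ, Fintype.card_fin, smul_eq_mul] at hsum
  by_contra hne
  -- `d ≥ p + 1`
  have hdge : p + 1 ≤ d := by
    have h1 : (d : ℤ) = 1 + ((a : ℤ) - 1) * p := by
      rw [hdF]
      ring
    have h2 : 2 ≤ a := by
      by_contra hlt
      have h3 : a = 0 ∨ a = 1 := by omega
      rcases h3 with h3 | h3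
      · rw [h3] at h1
        have : (d : ℤ) = 1 - p := by
          rw [h1]
          push_cast
          ring
        have h5 : (2 : ℤ) ≤ p := by exact_mod_cast hp1
        omega
      · rw [h3] at h1
        have : (d : ℤ) = 1 := by
          rw [h1]
          push_cast
          ring
        exact hne (by exact_mod_cast this)
    have h3 : (p : ℤ) + 1 ≤ d := by
      rw [h1]
      have h4 : (2 : ℤ) ≤ a := by exact_mod_cast h2
      have h5 : (0 : ℤ) ≤ p := by positivity
      nlinarith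
    exact_mod_cast h3
  rcases hf with hf | hf
  · rw [hf] at hνm
    have h1 := hνm i₀
    have h2 : 1 ≤ mν := by omega
    have h3 : 1 * D.D₀ ≤ mν * D.D₀ := Nat.mul_le_mul_right _ h2
    have h4 : D.t * (1 * D.D₀) ≤ D.t * (mν * D.D₀) := Nat.mul_le_mul_left _ h3
    rw [one_mul] at h4
    have h5 : 2 * (p + 2) ≤ D.t * D.D₀ := Nat.mul_le_mul ht2 (by omega)
    omega
  · rw [hf] at hνm
    have h1 := hνm i₀
    have h2 : p - 1 ≤ m F := by omega
    have h3 : (p - 1) * (p + 1) ≤ m F * d := Nat.mul_le_mul h2 hdge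
    have h4 : 3 * p ≤ (p - 1) * (p + 1) := by
      obtain ⟨q, rfl⟩ : ∃ q, p = q + 4 := ⟨p - 4, by omega⟩
      have : q + 4 - 1 = q + 3 := by omega
      rw [this]
      nlinarith
    omega

end Block

section Main

variable {G : Type u} [Group G] [Fintype G] [Fintype (IrrCharacter G)] {α : Type v} [Fintype α]
  [MulAction G α] {p : ℕ} [hp : Fact p.Prime]
  {P : Subgroup G} {hP : Nat.card P = p} [Fintype P] [Fintype (DD P p)]

/-- The kernel of a character not containing elements of `P \ {1}`. -/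
theorem charKer_eq_bot [IsPreprimitive G α] (hα : Fintype.card α = 2 * p)
    (hfaith : ∀ g : G, (∀ a : α, g • a = a) → g = 1) (hP : Nat.card P = p) (hp2 : ¬ p ^ 2 ∣ Nat.card G)
    (hC : Cn P = P) {χ : G → ℂ} (hχ : IsCharacter G χ) (hχP : ∀ u : P, u ≠ 1 → χ u ≠ χ 1) :
    charKer hχ = ⊥ := by
  by_contra hne
  have h1 := card_dvd_of_normal hfaith (charKer hχ) hne
  rw [hα] at h1
  haveI : Fact p.Prime := hp
  obtain ⟨y, hy⟩ := exists_prime_orderOf_dvd_card' (G := charKer hχ) p ((dvd_mul_left p 2).trans h1)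
  have hy' : p ∣ orderOf (y : G) := by
    rw [← Subgroup.orderOf_coe] at hy
    rw [hy]
  obtain ⟨x, hx, hx1⟩ := exists_conj_mem hP hp2 hC hy'
  apply hχP ⟨_, hx⟩ (fun h => hx1 (congrArg Subtype.val h))
  have hcf := isClassFunction_iff_isConj.mp (isClassFunction_of_isCharacter hχ)
  show χ (x⁻¹ * (y : G) * x) = χ 1
  rw [← hcf (y : G) (x⁻¹ * (y : G) * x) (isConj_iff.mpr ⟨x⁻¹, by group⟩)]
  exact y.2

variable (D : BD P p 2 hP) (hp2 : ¬ p ^ 2 ∣ Nat.card G)

include hp2

/-- The case `A = {F}`: the subgroup `P` is normal. -/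
theorem normal_of_A2 [IsPreprimitive G α] (hα : Fintype.card α = 2 * p)
    (hfaith : ∀ g : G, (∀ a : α, g • a = a) → g = 1) (hC : Cn P = P)
    {F : IrrCharacter G} (hA : setA D = {F}) (hB : setB D = ∅)
    (hF1 : charDegree (F : G → ℂ) = 1) : P.Normal := by
  obtain ⟨hε, hD⟩ := ε_of_A D hA hB
  have hD₀ : D.D₀ = 2 := by omega
  have hp1 := hp.out.two_le
  have hχ := isCharacter_of_isIrrCharacter F.2
  have h1 : (F : G → ℂ) 1 = 1 := by
    rw [← charDegree_natCast hχ, hF1]
    simp
  obtain ⟨lam, hlam⟩ := Cfsg.Agent.Lib.Char.Linear.exists_hom_of_deg_one hχ h1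
  have hFval : ∀ g, (F : G → ℂ) g = (lam g : ℂ) := fun g => congrFun hlam g
  have hzF : D.z F = -1 := by
    have : F ∈ setA D := by rw [hA]; exact Finset.mem_singleton_self F
    exact (Finset.mem_filter.mp this).2.1
  -- an exceptional character with trivial kernel
  obtain ⟨i₀⟩ : Nonempty (Fin D.t) := ⟨⟨0, D.t_pos⟩⟩
  have hχ₁ := isCharacter_of_isIrrCharacter (D.ν i₀).2
  have hν1 : (D.ν i₀ : G → ℂ) 1 = 2 := by
    rw [ν_one, hD₀]
    norm_num
  have hKbot : charKer hχ₁ = ⊥ := by
    apply charKer_eq_bot hα hfaith hP hp2 hC hχ₁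
    intro u hu hu2
    -- `P` lies in the kernel
    have hz := eq_zpowers_of_mem hP u.2 (fun h => hu (Subtype.ext h))
    have hPK : P ≤ charKer hχ₁ := by
      intro v hv
      have hv' : v ∈ Subgroup.zpowers (u : G) := by
        rw [← hz]
        exact hv
      obtain ⟨k, rfl⟩ := Subgroup.mem_zpowers_iff.mp hv'
      exact (charKer hχ₁).zpow_mem hu2 k
    have h2 := sum_P_eq (hP := hP) hp2 (D.ν i₀)
    have h3 := D.deg_ν hp2 i₀
    rw [hε, hD₀] at h3
    have hp0 : (p : ℤ) ≠ 0 := by exact_mod_cast hp.out.ne_zero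
    have h4 : aP (hP := hP) hp2 (D.ν i₀) = 0 := by
      have h5 : (p : ℤ) * (aP (hP := hP) hp2 (D.ν i₀) : ℤ) = 0 := by
        push_cast at h3
        linarith
      have h6 := (mul_eq_zero.mp h5).resolve_left hp0
      exact_mod_cast h6
    rw [h4] at h2
    have h5 : ∑ k : P, (D.ν i₀ : G → ℂ) k = (p : ℂ) * 2 := by
      have h6 : ∀ k : P, (D.ν i₀ : G → ℂ) k = 2 := fun k => by
        rw [← hν1]
        exact hPK k.2
      simp only [h6]
      rw [Finset.sum_const, Finset.card_univ, ← Nat.card_eq_fintype_card, hP, nsmul_eq_mul]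
    rw [h5] at h2
    have hp0C : (p : ℂ) ≠ 0 := by exact_mod_cast hp.out.ne_zero
    apply hp0C
    push_cast at h2
    linear_combination h2 / 2
  -- regular elements of the kernel
  have hreg : ∀ g ∈ lam.ker, ¬ p ∣ orderOf g → g = 1 := by
    intro g hg hgp
    have hg1 : (F : G → ℂ) g = 1 := by
      rw [hFval, MonoidHom.mem_ker.mp hg]
      simp
    have h2 := D.reg_rel i₀ hgp
    rw [sum_z D (fun j => (j : G → ℂ) g), hA, hB, hε] at h2
    simp only [Finset.sum_empty, Finset.sum_singleton, hg1] at h2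
    have h3 : ((oneIrr G : IrrCharacter G) : G → ℂ) g = 1 := rfl
    rw [h3] at h2
    push_cast at h2
    have h4 : g ∈ charKer hχ₁ := by
      show (D.ν i₀ : G → ℂ) g = (D.ν i₀ : G → ℂ) 1
      rw [hν1]
      linear_combination h2
    rw [hKbot] at h4
    exact Subgroup.mem_bot.mp h4
  -- `P` lies in the kernel
  have hPK : P ≤ lam.ker := by
    intro u hu
    by_cases hu1 : u = 1
    · rw [hu1]
      exact Subgroup.one_mem _
    · have h2 := D.val_z hp2 (j := F) (by rw [hzF]; norm_num) (u := ⟨u, hu⟩)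
        (fun h => hu1 (congrArg Subtype.val h))
      rw [hzF, hFval] at h2
      rw [MonoidHom.mem_ker]
      apply Units.ext
      rw [h2]
      simp
  -- the kernel is a `p`-group
  have hKp : IsPGroup p lam.ker := by
    rw [IsPGroup.iff_orderOf]
    intro g
    rw [← Subgroup.orderOf_coe]
    have ho : orderOf (g : G) ≠ 0 := (orderOf_pos _).ne'
    obtain ⟨a, m', hm', hm⟩ := Nat.exists_eq_pow_mul_and_not_dvd ho p hp.out.ne_one
    refine ⟨a, ?_⟩
    have hpa : p ^ a ≠ 0 := pow_ne_zero _ hp.out.ne_zero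
    have hord : orderOf ((g : G) ^ p ^ a) = m' := by
      rw [orderOf_pow' _ hpa, hm, Nat.gcd_mul_right_left]
      exact Nat.mul_div_cancel_left _ (Nat.pos_of_ne_zero hpa)
    have hmem : (g : G) ^ p ^ a ∈ lam.ker := Subgroup.pow_mem _ g.2 _
    have h3 := hreg _ hmem (by rw [hord]; exact hm')
    rw [h3, orderOf_one] at hord
    rw [hm, ← hord, mul_one]
  obtain ⟨k, hk⟩ := IsPGroup.iff_card.mp hKp
  have hkdvd : Nat.card lam.ker ∣ Nat.card G := Subgroup.card_subgroup_dvd_card _
  have hk1 : k ≤ 1 := by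
    by_contra hcon
    apply hp2
    rw [hk] at hkdvd
    exact (pow_dvd_pow p (by omega)).trans hkdvd
  have heq : P = lam.ker := by
    apply Subgroup.eq_of_le_of_card_ge hPK
    rw [hP, hk]
    calc p ^ k ≤ p ^ 1 := Nat.pow_le_pow_right hp.out.pos hk1
      _ = p := pow_one p
  rw [heq]
  exact MonoidHom.normal_ker lam

/-- Involutions have exactly two fixed points. -/
theorem fix_invol (hp5 : 3 < p) [IsPretransitive G α] (hα : Fintype.card α = 2 * p) (hC : Cn P = P)
    {F : IrrCharacter G} (hε : D.ε = -1) (hA : setA D = ∅) (hB : setB D = {F})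
    (hdeg : charDegree (F : G → ℂ) = p - 1) {τ : G} (hττ : τ * τ = 1) (hτ1 : τ ≠ 1)
    (hinv : ∀ u ∈ P, τ * u * τ⁻¹ = u⁻¹) (hfaithF : ∀ g : G, (F : G → ℂ) g = (p : ℂ) - 1 → g = 1)
    (hτN : τ ∈ Nn P) (hτP : τ ∉ P) (hN : Nat.card (Nn P) = p * 2)
    {ψ : IrrCharacter G} (hψ : ψ ∈ setC D) (hdψ : charDegree (ψ : G → ℂ) = p)
    (hπ : ∀ g, (Nat.card (fixedBy α g) : ℂ) = 1 + (F : G → ℂ) g + (ψ : G → ℂ) g)
    {x : G} (hxx : x * x = 1) (hx1 : x ≠ 1) : Nat.card (fixedBy α x) = 2 := by
  have hodd : p ≠ 2 := by omega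
  have hγ : IsCharacter G (fun g : G => (Nat.card (fixedBy α g) : ℂ)) :=
    Cfsg.Agent.Lib.Char.Orbital.isCharacter_permChar
  have hcf := isClassFunction_iff_isConj.mp (isClassFunction_of_isCharacter hγ)
  have hconj : ∀ {y : G}, y * y = 1 → y ≠ 1 → Nat.card (fixedBy α y) = Nat.card (fixedBy α τ) := by
    intro y hyy hy1
    have h1 := hcf τ y (invol_conj D hp2 hC hε hA hB hdeg hττ hinv hodd hfaithF hτN hτP hN hyy hy1)
    exact_mod_cast h1.symm
  rw [hconj hxx hx1]
  -- the value at `τ`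
  have hψχ := isCharacter_of_isIrrCharacter ψ.2
  obtain ⟨ha₀, hdψ'⟩ := deg_setC D hp2 hC hψ
  have haψ : aP (hP := hP) hp2 ψ = 1 := by
    rw [hdψ] at hdψ'
    have : p * aP (hP := hP) hp2 ψ = p * 1 := by rw [← hdψ', mul_one]
    exact Nat.eq_of_mul_eq_mul_left hp.out.pos this
  have hsum := sum_P_eq (hP := hP) hp2 ψ
  rw [haψ] at hsum
  obtain ⟨c, hc, hcb⟩ := bound_of_inverting hP hodd hττ hinv hψχ (b := 1) (by simpa using hsum)
  set n := Nat.card (fixedBy α τ) with hn
  have hnc : (n : ℂ) = 1 + (c : ℂ) := by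
    rw [hn, hπ τ, F_τ D hp2 hB hdeg hττ hinv hodd, hc]
    ring
  have hnc' : (n : ℤ) = 1 + c := by exact_mod_cast hnc
  have hpar : (n + Fintype.card α) % 2 = 0 :=
    Cfsg.Agent.S0740.card_fixedBy_parity (orderOf_eq_prime (by rw [pow_two, hττ]) hτ1)
  rw [hα] at hpar
  have hcb' := abs_le.mp hcb
  have hcases : n = 0 ∨ n = 2 := by omega
  rcases hcases with h0 | h2
  swap
  · exact h2
  exfalso
  -- a fixed point
  have hfaithF' := hfaithF
  obtain ⟨a⟩ : Nonempty α := by
    rw [← Fintype.card_pos_iff, hα]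
    omega
  obtain ⟨k, hk⟩ := exists_pow_two D hp2 hC hε hA hB hdeg hττ hinv hodd hfaithF hτN hτP hN hτ1
  have hk2 : 2 ≤ k := by
    by_contra hlt
    have : k = 0 ∨ k = 1 := by omega
    rcases this with rfl | rfl <;> simp at hk <;> omega
  obtain ⟨q, hq⟩ : ∃ q, p - 1 = 4 * q := by
    obtain ⟨r, rfl⟩ : ∃ r, k = r + 2 := ⟨k - 2, by omega⟩
    refine ⟨2 ^ r, ?_⟩
    rw [hk, pow_add]
    ring
  have hcardG := card_G D hp2 hC hε hA hB hdeg hττ hinv hodd hfaithF
  have hstab : Nat.card (stabilizer G a) * (2 * p) = p * (p - 1) * (p - 2) := by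
    have h1 := Subgroup.card_mul_index (stabilizer G a)
    rw [index_stabilizer, orbit_eq_univ, Set.ncard_univ, Nat.card_eq_fintype_card (α := α), hα, hcardG] at h1
    exact h1
  have hS : Nat.card (stabilizer G a) = 2 * q * (p - 2) := by
    rw [hq] at hstab
    have h1 : 2 * p * Nat.card (stabilizer G a) = 2 * p * (2 * q * (p - 2)) := by
      rw [mul_comm (2 * p), hstab]
      ring
    exact Nat.eq_of_mul_eq_mul_left (by omega) h1
  haveI : Fact (Nat.Prime 2) := ⟨Nat.prime_two⟩
  obtain ⟨y, hy⟩ := exists_prime_orderOf_dvd_card' (G := stabilizer G a) 2 (by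
    rw [hS]
    exact ⟨q * (p - 2), by ring⟩)
  have hy' : orderOf (y : G) = 2 := by
    rw [← Subgroup.orderOf_coe] at hy
    exact hy
  have hyy : (y : G) * y = 1 := by
    rw [← pow_two, ← hy']
    exact pow_orderOf_eq_one _
  have hy1 : (y : G) ≠ 1 := by
    intro h
    rw [h, orderOf_one] at hy'
    omega
  have h3 := hconj hyy hy1
  rw [h0] at h3
  haveI : Nonempty (fixedBy α (y : G)) := ⟨⟨a, y.2⟩⟩
  have h4 : 0 < Nat.card (fixedBy α (y : G)) := Nat.card_pos
  omega

end Main

/-- **Primitive groups of degree `2 p` with `|N(P)| = 2 p`**. -/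
theorem main_2p {G : Type u} [Group G] [Finite G] {α : Type v} [Fintype α] [MulAction G α] {p : ℕ}
    [hp : Fact p.Prime] (hp5 : 3 < p) (hα : Fintype.card α = 2 * p) [IsPreprimitive G α]
    (hfaith : ∀ g : G, (∀ a : α, g • a = a) → g = 1) (hnot2 : ¬ IsMultiplyPretransitive G α 2)
    (Q : Sylow p G) (hN : Nat.card (Subgroup.normalizer ((Q : Subgroup G) : Set G)) = 2 * p) :
    p = 5 ∧ Nonempty (G ≃* alternatingGroup (Fin 5)) := by
  classical
  let _ : Fintype G := Fintype.ofFinite G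
  have := finite_irrCharacter (G := G)
  let _ := Fintype.ofFinite (IrrCharacter G)
  have hp1 := hp.out.two_le
  have hpos := hp.out.pos
  have hodd : p ≠ 2 := by omega
  have hnn0 := not_normal_sylow hfaith hα hodd Q hN
  obtain ⟨hQc, hp2⟩ := sylow_card_of_normalizer hodd Q hN hnn0
  have hC0 := cent_sylow hfaith hα hodd Q hN hQc
  obtain ⟨P, hQ₀⟩ : ∃ P : Subgroup G, (Q : Subgroup G) = P := ⟨_, rfl⟩
  let _ : Fintype P := Fintype.ofFinite _
  have hP : Nat.card P = p := by rw [← hQ₀]; exact hQc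
  have hnn : ¬ P.Normal := by rw [← hQ₀]; exact hnn0
  have hC : Cn P = P := by
    show Subgroup.centralizer (P : Set G) = P
    rw [← hQ₀]
    exact hC0
  have hNp : Nat.card (Nn P) = p * 2 := by
    rw [mul_comm, ← hN, hQ₀]
  have hCc : Nat.card (Cn P) = p := by
    rw [← hP]
    exact Nat.card_congr (Equiv.setCongr (by rw [hC]))
  have hCN : Cn P ≤ Nn P := Subgroup.centralizer_le_normalizer _
  have hNe : Nat.card (Nn P) = 2 * Nat.card (Cn P) := by rw [hCc, hNp, mul_comm]
  have hrel : (Cn P).relIndex (Nn P) = 2 := by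
    have h1 := Subgroup.card_mul_index ((Cn P).subgroupOf (Nn P))
    have h2 : Nat.card ((Cn P).subgroupOf (Nn P)) = Nat.card (Cn P) :=
      Nat.card_congr (Subgroup.subgroupOfEquivOfLe hCN).toEquiv
    rw [h2, hNe] at h1
    have h3 : Nat.card (Cn P) * ((Cn P).subgroupOf (Nn P)).index = Nat.card (Cn P) * 2 := by
      rw [h1, mul_comm]
    exact Nat.eq_of_mul_eq_mul_left Nat.card_pos h3
  obtain ⟨M, hM⟩ := Cfsg.Agent.Lib.BlockH.Basic.exists_isPModular hp.out
  have := finite_DD (p := p) (P := P) hP hp2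
  let _ : Fintype (DD P p) := Fintype.ofFinite _
  have hcount : Nat.card (principalBlock M G) = 2 + (p - 1) / 2 :=
    (Cfsg.Agent.S0960.result p M hM hodd Q hQc 2 (by rw [hQ₀]; exact hrel)).1
  obtain ⟨D⟩ := exists_BD hM hP hp2 2 hNe hodd hcount
  -- the permutation character
  have hγ : IsCharacter G (fun g : G => (Nat.card (fixedBy α g) : ℂ)) :=
    Cfsg.Agent.Lib.Char.Orbital.isCharacter_permChar
  obtain ⟨m, hm1, hm2⟩ := exists_decomp hγ
  have hne : Nonempty α := by
    rw [← Fintype.card_pos_iff, hα]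
    omega
  have hone : m (oneIrr G) = 1 := by
    have h1 := hm1 (oneIrr G)
    have h2 : classInner (fun g : G => (Nat.card (fixedBy α g) : ℂ)) (fun _ => (1 : ℂ)) = 1 :=
      Cfsg.Agent.Lib.BrauerP.Data.classInner_perm_one'
    have h3 : ((m (oneIrr G) : ℕ) : ℂ) = 1 := by
      rw [← h1]
      exact h2
    exact_mod_cast h3
  have hd : (Nat.card (fixedBy α (1 : G)) : ℂ) = ((2 * p : ℕ) : ℂ) := by
    have h1 : Nat.card (fixedBy α (1 : G)) = Nat.card α :=
      Nat.card_congr (Equiv.subtypeUnivEquiv (by simp))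
    rw [h1, Nat.card_eq_fintype_card, hα]
  -- the number of fixed points of elements of `P`
  obtain ⟨u₀, hu₀⟩ := Cfsg.Agent.Lib.BrauerP.Data.exists_ne_one hP
  set f₀ := Nat.card (fixedPoints P α) with hf₀
  have hfu : ∀ u : P, u ≠ 1 → Nat.card (fixedBy α (u : G)) = f₀ := by
    intro u hu
    apply Nat.card_congr
    apply Equiv.setCongr
    ext x
    constructor
    · intro hx v
      have hz := eq_zpowers_of_mem hP u.2 (fun h => hu (Subtype.ext h))
      have hv : (v : G) ∈ Subgroup.zpowers (u : G) := by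
        rw [← hz]
        exact v.2
      obtain ⟨k, hk⟩ := Subgroup.mem_zpowers_iff.mp hv
      show (v : G) • x = x
      rw [← hk]
      exact (stabilizer G x).zpow_mem hx k
    · intro hx
      exact hx u
  have h0 : ∀ u : P, u ≠ 1 → (Nat.card (fixedBy α (u : G)) : ℂ) = (f₀ : ℂ) := by
    intro u hu
    rw [hfu u hu]
  have hf : f₀ = 0 ∨ f₀ = p := by
    have hmod := (isPGroup_of_card hP).card_modEq_card_fixedPoints α
    rw [Nat.card_eq_fintype_card, hα] at hmod
    have hdvd : p ∣ f₀ := by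
      have h1 : 2 * p ≡ 0 [MOD p] := (Nat.modEq_zero_iff_dvd).mpr (dvd_mul_left p 2)
      exact (Nat.modEq_zero_iff_dvd).mp (hmod.symm.trans h1)
    obtain ⟨c, hc⟩ := hdvd
    have hle : f₀ ≤ 2 * p := by
      rw [← hα, ← Nat.card_eq_fintype_card]
      exact Nat.card_le_card_of_injective (Subtype.val : fixedPoints P α → α) Subtype.val_injective
    have hne : f₀ ≠ 2 * p := by
      intro h
      apply hu₀
      apply Subtype.ext
      apply hfaith
      by_contra hcon
      push Not at hcon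
      obtain ⟨a, ha⟩ := hcon
      have h1 : Nat.card (fixedBy α (u₀ : G)) < Nat.card α := by
        rw [Nat.card_eq_fintype_card, Nat.card_eq_fintype_card]
        exact Fintype.card_lt_of_injective_of_notMem (Subtype.val : fixedBy α (u₀ : G) → α)
          Subtype.val_injective (b := a) (fun ⟨x, hx⟩ => ha (hx ▸ x.2))
      rw [hfu u₀ hu₀, h, Nat.card_eq_fintype_card, hα] at h1
      omega
    have hc2 : c < 2 := by
      by_contra hcon
      have h1 : 2 * p ≤ c * p := Nat.mul_le_mul_right _ (by omega)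
      rw [hc, mul_comm p c] at hle hne
      omega
    have : c = 0 ∨ c = 1 := by omega
    rcases this with rfl | rfl
    · left
      rw [hc, mul_zero]
    · right
      rw [hc, mul_one]
  have hAB := card_setA_add D
  have hcases : ((setA D).card = 0 ∧ (setB D).card = 1) ∨ ((setA D).card = 1 ∧ (setB D).card = 0) := by
    omega
  rcases hcases with ⟨h1, h2⟩ | ⟨h1, h2⟩
  swap
  · exfalso
    obtain ⟨F, hA⟩ := Finset.card_eq_one.mp h1
    have hB := Finset.card_eq_zero.mp h2
    have hF1 := decomp2_A D hp2 hp5 hC hA hB hm2 hone hd h0 hf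
    exact hnn (normal_of_A2 D hp2 hα hfaith hC hA hB hF1)
  obtain ⟨F, hB⟩ := Finset.card_eq_one.mp h2
  have hA := Finset.card_eq_zero.mp h1
  have hε := ε_of_B D hA hB
  have hχF := isCharacter_of_isIrrCharacter F.2
  rcases decomp2_B D hp2 hp5 hC hA hB hm2 hone hd h0 hf with hπ | ⟨hdeg, ψ, hψ, hdψ, hπ⟩
  · exfalso
    apply hnot2
    apply two_trans_of_card_orbits
    apply card_orbits_of_sum
    have h3 : ∑ g : G, ((Nat.card (fixedBy α g) : ℂ)) * (Nat.card (fixedBy α g) : ℂ) =
        2 * (Nat.card G : ℂ) := by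
      have h4 : ∀ g : G, ((Nat.card (fixedBy α g) : ℂ)) * (Nat.card (fixedBy α g) : ℂ) =
          1 + (F : G → ℂ) g + conj ((F : G → ℂ) g) + (F : G → ℂ) g * conj ((F : G → ℂ) g) := by
        intro g
        nth_rewrite 2 [← Complex.conj_natCast]
        rw [hπ g, map_add, map_one]
        ring
      simp only [h4]
      have h5 := sum_irr_mul_conj F F
      rw [if_pos rfl] at h5
      have h6 := sum_irr_of_ne (F_ne_one D hB)
      have h7 : ∑ g : G, conj ((F : G → ℂ) g) = 0 := by
        rw [← map_sum, h6, map_zero]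
      rw [Finset.sum_add_distrib, Finset.sum_add_distrib, Finset.sum_add_distrib, h5, h6, h7,
        Finset.sum_const, Finset.card_univ, ← Nat.card_eq_fintype_card, nsmul_eq_mul]
      ring
    have h4 : ((∑ g : G, Nat.card (fixedBy α g) * Nat.card (fixedBy α g) : ℕ) : ℂ) =
        ((2 * Nat.card G : ℕ) : ℂ) := by
      push_cast
      exact h3
    exact_mod_cast h4
  obtain ⟨τ, hττ, hτN, hτP, hinv⟩ := exists_τ hP hC hNp hodd
  have hτ1 : τ ≠ 1 := by
    rintro rfl
    exact hτP P.one_mem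
  have hfaithF : ∀ g : G, (F : G → ℂ) g = (p : ℂ) - 1 → g = 1 := by
    have hK := charKer_eq_bot hα hfaith hP hp2 hC hχF (fun u hu => by
      rw [F_val D hp2 hB hu, ← charDegree_natCast hχF, hdeg, Nat.cast_sub (by omega)]
      intro h
      have h3 : ((p : ℕ) : ℂ) = ((0 : ℕ) : ℂ) := by
        push_cast at h ⊢
        linear_combination -h
      have h4 : p = 0 := by exact_mod_cast h3
      omega)
    intro g hg
    have h3 : g ∈ charKer hχF := by
      show (F : G → ℂ) g = (F : G → ℂ) 1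
      rw [hg, ← charDegree_natCast hχF, hdeg, Nat.cast_sub (by omega)]
      simp
    rw [hK] at h3
    exact Subgroup.mem_bot.mp h3
  have hconj := fun (x : G) (hxx : x * x = 1) (hx1 : x ≠ 1) =>
    invol_conj D hp2 hC hε hA hB hdeg hττ hinv hodd hfaithF hτN hτP hNp hxx hx1
  have hG := card_G D hp2 hC hε hA hB hdeg hττ hinv hodd hfaithF
  have h5 : p = 5 := perm_core hp5 hα hG hττ hτ1 hconj
    (fun x hxx hx1 => card_cent_invol D hp2 hC hε hA hB hdeg hττ hinv hodd hfaithF hτN hτP hNp hxx hx1)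
    (fun x c hxx hx1 hc => sq_of_cent_invol D hp2 hC hε hA hB hdeg hττ hinv hodd hfaithF hτN hτP hNp hτ1 hxx hx1 hc)
    (card_class_τ D hp2 hC hε hA hB hdeg hττ hinv hodd hfaithF hτN hτP hNp)
    (fun x hxx hx1 => fix_invol D hp2 hp5 hα hC hε hA hB hdeg hττ hτ1 hinv hfaithF hτN hτP hNp hψ hdψ hπ hxx hx1)
  -- the group is simple
  have hPN : P ≤ Nn P := Subgroup.le_normalizer
  have hidx : (P.subgroupOf (Nn P)).index = 2 := by
    have h1 := Subgroup.card_mul_index (P.subgroupOf (Nn P))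
    have h2 : Nat.card (P.subgroupOf (Nn P)) = p := by
      rw [← hP]
      exact Nat.card_congr (Subgroup.subgroupOfEquivOfLe hPN).toEquiv
    rw [h2, hNp] at h1
    exact Nat.eq_of_mul_eq_mul_left hp.out.pos h1
  have hsimple : IsSimpleGroup G := by
    haveI : Nontrivial G := ⟨⟨τ, 1, hτ1⟩⟩
    refine ⟨fun N hNn => ?_⟩
    haveI := hNn
    by_cases hN0 : N = ⊥
    · exact Or.inl hN0
    right
    have h1 := card_dvd_of_normal hfaith N hN0
    rw [hα] at h1
    have hPN' : P ≤ N := by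
      obtain ⟨y, hy⟩ := exists_prime_orderOf_dvd_card' (G := N) p ((dvd_mul_left p 2).trans h1)
      have hy' : p ∣ orderOf (y : G) := by
        rw [← Subgroup.orderOf_coe] at hy
        rw [hy]
      obtain ⟨x, hx, hx1⟩ := exists_conj_mem hP hp2 hC hy'
      have hu : x⁻¹ * (y : G) * x ∈ N := by
        have h3 := hNn.conj_mem y y.2 x⁻¹
        rwa [inv_inv] at h3
      intro v hv
      have hz := eq_zpowers_of_mem hP hx hx1
      have hv' : v ∈ Subgroup.zpowers (x⁻¹ * (y : G) * x) := by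
        rw [← hz]
        exact hv
      obtain ⟨k, rfl⟩ := Subgroup.mem_zpowers_iff.mp hv'
      exact N.zpow_mem hu k
    have hτN' : τ ∈ N := by
      haveI : Fact (Nat.Prime 2) := ⟨Nat.prime_two⟩
      obtain ⟨z, hz⟩ := exists_prime_orderOf_dvd_card' (G := N) 2 ((dvd_mul_right 2 p).trans h1)
      have hz' : orderOf (z : G) = 2 := by
        rw [← Subgroup.orderOf_coe] at hz
        exact hz
      have hzz : (z : G) * z = 1 := by
        rw [← pow_two, ← hz']
        exact pow_orderOf_eq_one _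
      have hz1 : (z : G) ≠ 1 := by
        intro h
        rw [h, orderOf_one] at hz'
        omega
      obtain ⟨g, hg⟩ := isConj_iff.mp (hconj z hzz hz1)
      have h3 := hNn.conj_mem z z.2 g⁻¹
      rw [← hg] at h3
      have h4 : g⁻¹ * (g * τ * g⁻¹) * g⁻¹⁻¹ = τ := by group
      rwa [h4] at h3
    have hNN : Nn P ≤ N := by
      intro g hg
      by_cases hgP : g ∈ P
      · exact hPN' hgP
      · have h2 := Subgroup.mul_mem_iff_of_index_two hidx (a := ⟨τ, hτN⟩) (b := ⟨g, hg⟩)
        have h3 : (⟨τ, hτN⟩ * ⟨g, hg⟩ : Nn P) ∈ P.subgroupOf (Nn P) := by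
          rw [h2]
          constructor
          · intro h
            exact absurd h hτP
          · intro h
            exact absurd h hgP
        have h4 : τ * g ∈ P := h3
        have h6 : g = τ⁻¹ * (τ * g) := by group
        rw [h6]
        exact N.mul_mem (N.inv_mem hτN') (hPN' h4)
    have h := Sylow.normalizer_sup_eq_top' (N := N) Q (by rw [hQ₀]; exact hPN')
    rw [eq_top_iff, ← h]
    refine sup_le ?_ le_rfl
    show Subgroup.normalizer (((Q : Subgroup G) : Set G)) ≤ N
    rw [hQ₀]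
    exact hNN
  refine ⟨h5, ?_⟩
  have h60 : Nat.card G = 60 := by
    rw [hG, h5]
  exact Cfsg.Agent.S0494.result h60

end Cfsg.Agent.Lib.BrauerP.TwoE
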