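import Cfsg.Agent.Lib.BrauerP.TwoE.Cubic
import Cfsg.Agent.Lib.Char.Orbital
import Cfsg.Agent.Lib.Char.Linear
import Cfsg.Agent.S0960

/-!
# Permutation groups of prime degree with `|N(P)| = 2 p`

Such a group has a character `F = π - 1` as in `TwoE.Cubic`; hence non-identity elements fix at
most two points, and the group is sharply triply transitive.
-/

set_option autoImplicit false
set_option linter.unusedSectionVars false
set_option linter.unusedVariables false

namespace Cfsg.Agent.Lib.BrauerP.TwoE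

open Cfsg Module MulAction
open Cfsg.Agent.Lib.Char.Basic Cfsg.Agent.Lib.Char.Ortho Cfsg.Agent.Lib.Char.Complete
open Cfsg.Agent.Lib.Char.Degree Cfsg.Agent.Lib.Char.Induced
open Cfsg.Agent.Lib.ExcP.Gram Cfsg.Agent.Lib.ExcP.Dual Cfsg.Agent.Lib.ExcP.Core
open Cfsg.Agent.Lib.ExcP.Inst Cfsg.Agent.Lib.ExcP.BlockHA
open Cfsg.Agent.Lib.BrauerP.Data Cfsg.Agent.Lib.BrauerP.Data.BD Cfsg.Agent.Lib.BrauerP.Frob
open Cfsg.Agent.Lib.BrauerP.Fourier Cfsg.Agent.Lib.BrauerP.Tuan
open scoped ComplexConjugate Classical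

universe u v

section Tau

variable {G : Type u} [Group G] [Finite G] {p : ℕ} [hp : Fact p.Prime] {P : Subgroup G}

/-- The involution inverting `P`. -/
theorem exists_τ (hP : Nat.card P = p) (hC : Cn P = P) (hN : Nat.card (Nn P) = p * 2) (hodd : p ≠ 2) :
    ∃ τ : G, τ * τ = 1 ∧ τ ∈ Nn P ∧ τ ∉ P ∧ ∀ u ∈ P, τ * u * τ⁻¹ = u⁻¹ := by
  let _ : Fintype G := Fintype.ofFinite G
  have hself : ∀ x ∈ P, x ≠ 1 → ∀ y : G, y * x = x * y → y ∈ P := by
    intro x hx hx1 y hy
    have h1 : y ∈ Subgroup.centralizer ({x} : Set G) := Subgroup.mem_centralizer_singleton_iff.mpr hy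
    rw [← centralizer_singleton_eq hP hx hx1, hC] at h1
    exact h1
  have S : SC P p 2 := ⟨hP, hself, hN⟩
  have : Fact (Nat.Prime 2) := ⟨Nat.prime_two⟩
  obtain ⟨x, hx⟩ := exists_prime_orderOf_dvd_card' (G := Nn P) 2 (by rw [hN]; exact dvd_mul_left _ _)
  have hτ2 : orderOf ((x : Nn P) : G) = 2 := by
    rw [Subgroup.orderOf_coe]
    exact hx
  set τ : G := (x : G) with hτ
  have hττ : τ * τ = 1 := by
    have := pow_orderOf_eq_one τ
    rwa [hτ2, pow_two] at this
  have hτi : τ⁻¹ = τ := inv_eq_of_mul_eq_one_left hττ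
  have hppow : ∀ y ∈ P, y ^ p = 1 := by
    intro y hy
    have h1 := pow_card_eq_one' (x := (⟨y, hy⟩ : P))
    rw [hP] at h1
    have := congrArg Subtype.val h1
    simpa using this
  have hτP : τ ∉ P := by
    intro h
    have h1 : orderOf τ ∣ p := orderOf_dvd_of_pow_eq_one (hppow τ h)
    rw [hτ2] at h1
    exact hodd ((Nat.prime_dvd_prime_iff_eq Nat.prime_two hp.out).mp h1).symm
  refine ⟨τ, hττ, x.2, hτP, ?_⟩
  obtain ⟨r, hr⟩ := S.conj_pow x.2
  obtain ⟨u₀, hu₀, hu₀1⟩ := S.exists_ne_one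
  have hu₀o : orderOf u₀ = p := by
    have h1 := eq_zpowers_of_mem hP hu₀ hu₀1
    rw [← hP, h1, Nat.card_zpowers]
  have hsq : u₀ ^ (r * r - 1) = 1 := by
    have h1 := hr u₀ hu₀
    have h2 := hr (u₀ ^ r) (P.zpow_mem hu₀ r)
    rw [← h1] at h2
    have h3 : τ * (τ * u₀ * τ⁻¹) * τ⁻¹ = u₀ := by
      rw [hτi]
      calc τ * (τ * u₀ * τ) * τ = (τ * τ) * u₀ * (τ * τ) := by group
        _ = u₀ := by rw [hττ]; group
    rw [h3, h1] at h2
    rw [sub_eq_add_neg, zpow_add, mul_comm r r, zpow_mul, ← h2]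
    simp
  have hdvd : (p : ℤ) ∣ r * r - 1 := by
    have := orderOf_dvd_iff_zpow_eq_one.mpr hsq
    rwa [hu₀o] at this
  have hfac : (p : ℤ) ∣ (r - 1) * (r + 1) := by
    have : (r - 1) * (r + 1) = r * r - 1 := by ring
    rwa [this]
  have hpZ : Prime (p : ℤ) := Nat.prime_iff_prime_int.mp hp.out
  rcases hpZ.dvd_or_dvd hfac with h | h
  · exfalso
    obtain ⟨k, hk⟩ := h
    apply hτP
    apply hself u₀ hu₀ hu₀1
    have h1 := hr u₀ hu₀
    have h2 : u₀ ^ r = u₀ := by
      have h3 : r = (p : ℤ) * k + 1 := by linarith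
      rw [h3, zpow_add, zpow_mul, zpow_natCast, hppow u₀ hu₀]
      simp
    rw [h2] at h1
    calc τ * u₀ = (τ * u₀ * τ⁻¹) * τ := by group
      _ = u₀ * τ := by rw [h1]
  · obtain ⟨k, hk⟩ := h
    intro y hy
    rw [hr y hy]
    have h3 : r = (p : ℤ) * k + -1 := by linarith
    rw [h3, zpow_add, zpow_mul, zpow_natCast, hppow y hy]
    simp

end Tau

section Regular

variable {G : Type u} [Group G] [Finite G] {α : Type v} [Fintype α] [MulAction G α] {p : ℕ}
  [hp : Fact p.Prime]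

/-- A subgroup of order `p` acts regularly on `p` points. -/
theorem regular_of_prime (hα : Fintype.card α = p) (hfaith : ∀ g : G, (∀ a : α, g • a = a) → g = 1)
    (P : Subgroup G) (hP : Nat.card P = p) :
    (∀ a b : α, ∃ u ∈ P, u • a = b) ∧ (∀ u ∈ P, ∀ a : α, u • a = a → u = 1) := by
  let _ : Fintype G := Fintype.ofFinite G
  obtain ⟨u₀, hu₀⟩ := Cfsg.Agent.Lib.BrauerP.Data.exists_ne_one hP
  have hu₀' : (u₀ : G) ≠ 1 := fun h => hu₀ (Subtype.ext h)
  obtain ⟨a₀, ha₀⟩ : ∃ a₀ : α, (u₀ : G) • a₀ ≠ a₀ := by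
    by_contra hcon
    push Not at hcon
    exact hu₀' (hfaith _ hcon)
  have hcomm := comm_of_card hP
  -- the stabilizer of `a₀` in `P` is trivial
  have hS : ∀ v : P, (v : G) • a₀ = a₀ → v = 1 := by
    intro v hv
    by_contra hv1
    have hv1' : (v : G) ≠ 1 := fun h => hv1 (Subtype.ext h)
    have h1 := eq_zpowers_of_mem hP v.2 hv1'
    have h2 : (u₀ : G) ∈ Subgroup.zpowers (v : G) := by
      rw [← h1]
      exact u₀.2
    obtain ⟨k, hk⟩ := Subgroup.mem_zpowers_iff.mp h2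
    apply ha₀
    rw [← hk]
    have h3 : ∀ k : ℤ, (v : G) ^ k • a₀ = a₀ := by
      intro k
      have h4 : (v : G) ^ k ∈ stabilizer G a₀ := Subgroup.zpow_mem _ (mem_stabilizer_iff.mpr hv) k
      exact mem_stabilizer_iff.mp h4
    exact h3 k
  let f : P → α := fun v => (v : G) • a₀
  have hinj : Function.Injective f := by
    intro v w h
    have h1 : ((w⁻¹ * v : P) : G) • a₀ = a₀ := by
      have h2 : (v : G) • a₀ = (w : G) • a₀ := h
      push_cast
      rw [mul_smul, h2, inv_smul_smul]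
    have h2 := hS _ h1
    exact (inv_mul_eq_one.mp h2).symm
  have hbij : Function.Bijective f := by
    have : Fintype P := Fintype.ofFinite _
    rw [Fintype.bijective_iff_injective_and_card]
    refine ⟨hinj, ?_⟩
    rw [hα, ← Nat.card_eq_fintype_card, hP]
  constructor
  · intro a b
    obtain ⟨v, hv⟩ := hbij.2 a
    obtain ⟨w, hw⟩ := hbij.2 b
    refine ⟨((w * v⁻¹ : P) : G), (w * v⁻¹ : P).2, ?_⟩
    have hv' : (v : G) • a₀ = a := hv
    have hw' : (w : G) • a₀ = b := hw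
    push_cast
    rw [mul_smul, ← hv', inv_smul_smul, hw']
  · intro u hu a ha
    obtain ⟨v, hv⟩ := hbij.2 a
    have hv' : (v : G) • a₀ = a := hv
    have h1 : ((⟨u, hu⟩ : P) * v : P) = v * ⟨u, hu⟩ := hcomm _ _
    have h2 : ((v⁻¹ * (⟨u, hu⟩ * v) : P) : G) • a₀ = a₀ := by
      push_cast
      rw [mul_smul, mul_smul, hv', ha, ← hv', inv_smul_smul]
    have h3 := hS _ h2
    rw [h1] at h3
    have h4 : (⟨u, hu⟩ : P) = 1 := by
      have : v⁻¹ * (v * ⟨u, hu⟩) = (⟨u, hu⟩ : P) := by group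
      rw [← this, h3]
    exact congrArg Subtype.val h4

/-- A subgroup of order `p` on `p` points is self-centralizing. -/
theorem cent_of_prime (hα : Fintype.card α = p) (hfaith : ∀ g : G, (∀ a : α, g • a = a) → g = 1)
    (P : Subgroup G) (hP : Nat.card P = p) : Cn P = P := by
  obtain ⟨htrans, hreg⟩ := regular_of_prime hα hfaith P hP
  apply le_antisymm _ (le_centralizer hP)
  intro c hc
  have hne : Nonempty α := by
    rw [← Fintype.card_pos_iff, hα]
    exact hp.out.pos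
  obtain ⟨a⟩ := hne
  obtain ⟨w, hw, hwa⟩ := htrans a (c • a)
  have hd : w⁻¹ * c = 1 := by
    apply hfaith
    intro b
    obtain ⟨v, hv, hvb⟩ := htrans a b
    have h1 : c * v = v * c := ((Subgroup.mem_centralizer_iff.mp hc) v hv).symm
    have h2 : w * v = v * w := congrArg Subtype.val (comm_of_card hP ⟨w, hw⟩ ⟨v, hv⟩)
    rw [← hvb, mul_smul, ← mul_smul c v, h1, mul_smul v c, ← hwa, ← mul_smul v w, ← h2, mul_smul,
      inv_smul_smul]
  have : c = w := by
    have := mul_eq_one_iff_eq_inv'.mp hd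
    simpa using this
  rw [this]
  exact hw

end Regular

section Block

variable {G : Type u} [Group G] [Fintype G] [Fintype (IrrCharacter G)] {p : ℕ} [hp : Fact p.Prime]
  {P : Subgroup G} {hP : Nat.card P = p} [Fintype P] [Fintype (DD P p)]

variable (D : BD P p 2 hP) (hp2 : ¬ p ^ 2 ∣ Nat.card G)

omit hp2 in
/-- The relation between the degrees. -/
theorem rel_gen : (-1 : ℤ) - ((∑ j ∈ setA D, charDegree (j : G → ℂ) : ℕ) : ℤ) +
    ((∑ j ∈ setB D, charDegree (j : G → ℂ) : ℕ) : ℤ) + D.ε * D.D₀ = 0 := by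
  obtain ⟨i⟩ : Nonempty (Fin D.t) := ⟨⟨0, D.t_pos⟩⟩
  have h1 := D.reg_rel i (g := 1) (by
    rw [orderOf_one]
    exact hp.out.one_lt.ne' ∘ Nat.dvd_one.mp)
  rw [sum_z D (fun j => (j : G → ℂ) 1), ν_one] at h1
  have h2 : ((oneIrr G : IrrCharacter G) : G → ℂ) 1 = 1 := rfl
  have h3 : ∀ S : Finset (IrrCharacter G), ∑ j ∈ S, (j : G → ℂ) 1 =
      ((∑ j ∈ S, charDegree (j : G → ℂ) : ℕ) : ℂ) := by
    intro S
    push_cast
    refine Finset.sum_congr rfl fun j _ => ?_
    rw [charDegree_natCast (isCharacter_of_isIrrCharacter j.2)]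
  rw [h2, h3, h3] at h1
  have h4 : (((-1 : ℤ) - ((∑ j ∈ setA D, charDegree (j : G → ℂ) : ℕ) : ℤ) +
    ((∑ j ∈ setB D, charDegree (j : G → ℂ) : ℕ) : ℤ) + D.ε * D.D₀ : ℤ) : ℂ) = 0 := by
    push_cast at h1 ⊢
    linear_combination h1
  exact_mod_cast h4

omit hp2 in
/-- The sign when `B = {F}`. -/
theorem ε_of_B {F : IrrCharacter G} (hA : setA D = ∅) (hB : setB D = {F}) : D.ε = -1 := by
  have h1 := rel_gen D
  rw [hA, hB, Finset.sum_empty, Finset.sum_singleton] at h1
  have h2 : 0 < charDegree (F : G → ℂ) := charDegree_pos F.2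
  have h3 : 0 < D.D₀ := by
    have h0 := charDegree_pos (D.ν ⟨0, D.t_pos⟩).2
    rwa [D.hνdeg] at h0
  rcases D.hε with h | h
  · exfalso
    rw [h] at h1
    push_cast at h1
    omega
  · exact h

omit hp2 in
/-- The sign when `A = {F}`. -/
theorem ε_of_A {F : IrrCharacter G} (hA : setA D = {F}) (hB : setB D = ∅) :
    D.ε = 1 ∧ D.D₀ = charDegree (F : G → ℂ) + 1 := by
  have h1 := rel_gen D
  rw [hA, hB, Finset.sum_empty, Finset.sum_singleton] at h1
  have h2 : 0 < charDegree (F : G → ℂ) := charDegree_pos F.2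
  have h3 : 0 < D.D₀ := by
    have h0 := charDegree_pos (D.ν ⟨0, D.t_pos⟩).2
    rwa [D.hνdeg] at h0
  rcases D.hε with h | h
  · refine ⟨h, ?_⟩
    rw [h] at h1
    push_cast at h1
    omega
  · exfalso
    rw [h] at h1
    push_cast at h1
    omega

include hp2

/-- Decomposition of a character of degree `p` vanishing on `P \ {1}`, when `B = {F}`. -/
theorem decomp_B (hC : Cn P = P) {F : IrrCharacter G} (hA : setA D = ∅) (hB : setB D = {F})
    {γ : G → ℂ} {m : IrrCharacter G → ℕ} (hm : ∀ g, γ g = ∑ j : IrrCharacter G, (m j : ℂ) * (j : G → ℂ) g)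
    (hone : m (oneIrr G) = 1) (h0 : ∀ u : P, u ≠ 1 → γ u = 0) (hd : γ 1 = (p : ℂ)) :
    charDegree (F : G → ℂ) = p - 1 ∧ ∀ g, γ g = 1 + (F : G → ℂ) g := by
  have hε := ε_of_B D hA hB
  have hp1 := hp.out.two_le
  have hνm : ∀ i, m (D.ν i) + 1 = m F := by
    intro i
    have hx := sg_indep D hp2 (fun i => (m (D.ν i) : ℂ) + 1 - (m F : ℂ)) (fun u hu => by
      have h1 := tensor_val D hp2 hC hm hu
      rw [hA, hB, hone, h0 u hu] at h1
      simp only [Finset.sum_empty, Finset.sum_singleton, ν_val D hp2 hε hu] at h1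
      have h2 := sum_all_sg D hp2 hu
      simp only [sub_mul, add_mul, one_mul, Finset.sum_sub_distrib, Finset.sum_add_distrib]
      rw [← Finset.mul_sum, h2]
      simp only [mul_neg, Finset.sum_neg_distrib] at h1
      push_cast at h1
      linear_combination h1) i
    have h2 : ((m (D.ν i) + 1 : ℕ) : ℂ) = (m F : ℂ) := by
      push_cast
      linear_combination hx
    exact_mod_cast h2
  obtain ⟨i₀⟩ : Nonempty (Fin D.t) := ⟨⟨0, D.t_pos⟩⟩
  have hmF : 1 ≤ m F := by
    have := hνm i₀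
    omega
  have hdeg := tensor_deg hm
  rw [hd] at hdeg
  have hsum : ∑ j, m j * charDegree (j : G → ℂ) = p := by exact_mod_cast hdeg.symm
  have hF1 := F_ne_one D hB
  have hdF := deg_setB D hp2 (F_mem D hB)
  have hdF' : p - 1 ≤ charDegree (F : G → ℂ) := by
    have : ((p - 1 : ℕ) : ℤ) ≤ (charDegree (F : G → ℂ) : ℤ) := by
      rw [hdF, Nat.cast_sub (by omega)]
      have h1 : (0 : ℤ) ≤ aP (hP := hP) hp2 F := by positivity
      have h2 : (0 : ℤ) ≤ p := by positivity
      push_cast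
      nlinarith
    exact_mod_cast this
  -- the splitting
  let f : IrrCharacter G → ℕ := fun j => m j * charDegree (j : G → ℂ)
  have hs1 := Finset.add_sum_erase Finset.univ f (Finset.mem_univ (oneIrr G))
  have hs2 := Finset.add_sum_erase (Finset.univ.erase (oneIrr G)) f
    (Finset.mem_erase.mpr ⟨hF1, Finset.mem_univ F⟩)
  have hf1 : f (oneIrr G) = 1 := by
    simp only [f]
    rw [hone, charDegree_oneIrr]
  have hfF : f F = m F * charDegree (F : G → ℂ) := rfl
  rw [hf1, ← hs2, hfF] at hs1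
  change _ = ∑ j, m j * charDegree (j : G → ℂ) at hs1
  rw [hsum] at hs1
  have hle : m F * charDegree (F : G → ℂ) ≥ 1 * charDegree (F : G → ℂ) := Nat.mul_le_mul_right _ hmF
  have hdegF : charDegree (F : G → ℂ) = p - 1 := by omega
  have hmF1 : m F = 1 := by
    rw [hdegF] at hs1
    by_contra hne
    have h2 : 2 ≤ m F := by omega
    have h3 : 2 * (p - 1) ≤ m F * (p - 1) := Nat.mul_le_mul_right _ h2
    omega
  have hrest : ∑ j ∈ (Finset.univ.erase (oneIrr G)).erase F, f j = 0 := by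
    rw [hmF1, hdegF] at hs1
    omega
  have hzero : ∀ j ∈ (Finset.univ.erase (oneIrr G)).erase F, m j = 0 := by
    intro j hj
    have h1 := (Finset.sum_eq_zero_iff_of_nonneg (fun _ _ => Nat.zero_le _)).mp hrest j hj
    rcases mul_eq_zero.mp h1 with h2 | h2
    · exact h2
    · exact absurd h2 (charDegree_pos j.2).ne'
  refine ⟨hdegF, fun g => ?_⟩
  rw [hm g, ← Finset.add_sum_erase Finset.univ _ (Finset.mem_univ (oneIrr G)),
    ← Finset.add_sum_erase (Finset.univ.erase (oneIrr G)) _ (Finset.mem_erase.mpr ⟨hF1, Finset.mem_univ F⟩),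
    Finset.sum_eq_zero (fun j hj => by rw [hzero j hj]; simp), hone, hmF1]
  simp [oneIrr]

/-- Decomposition of a character of degree `p` vanishing on `P \ {1}`, when `A = {F}`. -/
theorem decomp_A (hC : Cn P = P) {F : IrrCharacter G} (hA : setA D = {F}) (hB : setB D = ∅)
    {γ : G → ℂ} {m : IrrCharacter G → ℕ} (hm : ∀ g, γ g = ∑ j : IrrCharacter G, (m j : ℂ) * (j : G → ℂ) g)
    (hone : m (oneIrr G) = 1) (h0 : ∀ u : P, u ≠ 1 → γ u = 0) (hd : γ 1 = (p : ℂ)) :
    D.D₀ = 2 ∧ charDegree (F : G → ℂ) = 1 ∧ ∀ g, γ g = 1 + ∑ i, (D.ν i : G → ℂ) g := by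
  obtain ⟨hε, hD⟩ := ε_of_A D hA hB
  have hp1 := hp.out.two_le
  have hνm : ∀ i, m (D.ν i) = 1 + m F := by
    intro i
    have hx := sg_indep D hp2 (fun i => (m (D.ν i) : ℂ) - 1 - (m F : ℂ)) (fun u hu => by
      have h1 := tensor_val D hp2 hC hm hu
      rw [hA, hB, hone, h0 u hu] at h1
      simp only [Finset.sum_empty, Finset.sum_singleton] at h1
      have h3 : ∀ i, (D.ν i : G → ℂ) u = sg D i u := by
        intro i
        rw [val_ν' D hp2 i hu, hε]
        simp
      simp only [h3] at h1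
      have h2 := sum_all_sg D hp2 hu
      simp only [sub_mul, one_mul, Finset.sum_sub_distrib]
      rw [← Finset.mul_sum, h2]
      push_cast at h1
      linear_combination -h1) i
    have h2 : (m (D.ν i) : ℂ) = ((1 + m F : ℕ) : ℂ) := by
      push_cast
      linear_combination hx
    exact_mod_cast h2
  have hdeg := tensor_deg hm
  rw [hd] at hdeg
  have hsum : ∑ j, m j * charDegree (j : G → ℂ) = p := by exact_mod_cast hdeg.symm
  rw [sum_split D, hA, hB, charDegree_oneIrr, hone] at hsum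
  simp only [Finset.sum_empty, Finset.sum_singleton, D.hνdeg, hνm] at hsum
  rw [Finset.sum_const, Finset.card_univ, Fintype.card_fin, smul_eq_mul] at hsum
  have hte := D.hte
  have hF0 : 0 < charDegree (F : G → ℂ) := charDegree_pos F.2
  have ht0 := D.t_pos
  have hD2 : 2 ≤ D.D₀ := by omega
  have h1 : D.t * 2 ≤ D.t * ((1 + m F) * D.D₀) := by
    apply Nat.mul_le_mul_left
    nlinarith
  have h2 : D.t * ((1 + m F) * D.D₀) ≤ D.t * 2 := by
    have : D.t * ((1 + m F) * D.D₀) = D.t * ((1 + m F) * D.D₀) := rfl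
    omega
  have h3 : (1 + m F) * D.D₀ = 2 := by
    have := le_antisymm h2 h1
    exact Nat.eq_of_mul_eq_mul_left ht0 this
  have hmF0 : m F = 0 := by
    by_contra hne
    have h4 : 2 * 2 ≤ (1 + m F) * D.D₀ := Nat.mul_le_mul (by omega) hD2
    omega
  have hD₀2 : D.D₀ = 2 := by
    rw [hmF0] at h3
    omega
  have hCz : ∑ j ∈ setC D, m j * charDegree (j : G → ℂ) = 0 := by
    rw [hmF0, hD₀2] at hsum
    simp only [zero_mul, zero_add, add_zero] at hsum
    omega
  have hzero : ∀ j ∈ setC D, m j = 0 := by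
    intro j hj
    have h1 := (Finset.sum_eq_zero_iff_of_nonneg (fun _ _ => Nat.zero_le _)).mp hCz j hj
    rcases mul_eq_zero.mp h1 with h2 | h2
    · exact h2
    · exact absurd h2 (charDegree_pos j.2).ne'
  refine ⟨hD₀2, by omega, fun g => ?_⟩
  rw [hm g, sum_split D, hA, hB, hone]
  simp only [Finset.sum_empty, Finset.sum_singleton, hνm, hmF0]
  rw [Finset.sum_eq_zero (s := setC D) (fun j hj => by rw [hzero j hj]; simp)]
  simp [oneIrr]

end Block

end Cfsg.Agent.Lib.BrauerP.TwoE
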