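import Cfsg.Agent.Lib.BrauerP.TwoE.Perm

/-!
# Permutation groups of prime degree with `|N(P)| = 2 p`: the main theorem
-/

set_option autoImplicit false
set_option linter.unusedSectionVars false
set_option linter.unusedVariables false

namespace Cfsg.Agent.Lib.BrauerP.TwoE

open Cfsg Module MulAction
open Cfsg.Agent.Lib.Char.Basic Cfsg.Agent.Lib.Char.Ortho Cfsg.Agent.Lib.Char.Complete
open Cfsg.Agent.Lib.Char.Degree Cfsg.Agent.Lib.Char.Induced
open Cfsg.Agent.Lib.ExcP.Gram Cfsg.Agent.Lib.ExcP.Dual Cfsg.Agent.Lib.ExcP.Core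
open Cfsg.Agent.Lib.ExcP.Inst Cfsg.Agent.Lib.ExcP.BlockHA
open Cfsg.Agent.Lib.BrauerP.Data Cfsg.Agent.Lib.BrauerP.Data.BD Cfsg.Agent.Lib.BrauerP.Frob
open Cfsg.Agent.Lib.BrauerP.Fourier Cfsg.Agent.Lib.BrauerP.Tuan
open scoped ComplexConjugate Classical

universe u v

section Sylow

variable {G : Type u} [Group G] [Finite G] {p : ℕ} [hp : Fact p.Prime]

/-- The order of a Sylow subgroup with normalizer of order `2 p`. -/
theorem sylow_card_of_normalizer (hodd : p ≠ 2) (Q : Sylow p G)
    (hN : Nat.card (Subgroup.normalizer ((Q : Subgroup G) : Set G)) = 2 * p)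
    (hnn : ¬ (Q : Subgroup G).Normal) : Nat.card Q = p ∧ ¬ p ^ 2 ∣ Nat.card G := by
  have hp1 := hp.out.two_le
  have hpos := hp.out.pos
  have h1 : Nat.card Q ∣ 2 * p := by
    rw [← hN]
    exact Subgroup.card_dvd_of_le Subgroup.le_normalizer
  obtain ⟨k, hk⟩ := IsPGroup.iff_card.mp Q.isPGroup'
  have hQc : Nat.card Q = p := by
    rcases k with _ | _ | k
    · exfalso
      apply hnn
      rw [pow_zero] at hk
      rw [Subgroup.card_eq_one.mp hk]
      exact Subgroup.normal_bot
    · rw [hk, zero_add, pow_one]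
    · exfalso
      rw [hk] at h1
      have h2 : p ^ 2 ∣ 2 * p := (pow_dvd_pow p (by omega)).trans h1
      rw [pow_two, mul_comm] at h2
      have h3 : p ∣ 2 := Nat.dvd_of_mul_dvd_mul_right hpos h2
      exact hodd ((Nat.prime_dvd_prime_iff_eq hp.out Nat.prime_two).mp h3)
  refine ⟨hQc, ?_⟩
  intro h
  have hQm : Nat.card Q = p ^ (Nat.card G).factorization p := Q.card_eq_multiplicity
  have h2 : 2 ≤ (Nat.card G).factorization p :=
    (hp.out.pow_dvd_iff_le_factorization Nat.card_pos.ne').mp h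
  have h3 : p ^ 2 ≤ p ^ (Nat.card G).factorization p := Nat.pow_le_pow_right hpos h2
  rw [← hQm, hQc] at h3
  nlinarith

end Sylow

section Main

variable {G : Type u} [Group G] [Fintype G] [Fintype (IrrCharacter G)] {α : Type v} [Fintype α]
  [MulAction G α] {p : ℕ} [hp : Fact p.Prime]
  {P : Subgroup G} {hP : Nat.card P = p} [Fintype P] [Fintype (DD P p)]

omit [Fintype (IrrCharacter G)] [Fintype P] [Fintype (DD P p)] in
/-- An element fixing `p` points out of `p` is trivial. -/
theorem eq_one_of_card_fixed (hα : Fintype.card α = p) (hfaith : ∀ g : G, (∀ a : α, g • a = a) → g = 1)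
    {g : G} (h : Nat.card (fixedBy α g) = p) : g = 1 := by
  apply hfaith
  intro a
  by_contra hne
  have h1 : Nat.card (fixedBy α g) < Nat.card α := by
    have : Finite (fixedBy α g) := inferInstance
    rw [Nat.card_eq_fintype_card, Nat.card_eq_fintype_card]
    exact Fintype.card_lt_of_injective_of_notMem (Subtype.val : fixedBy α g → α)
      Subtype.val_injective (b := a) (fun ⟨x, hx⟩ => hne (hx ▸ x.2))
  rw [h, Nat.card_eq_fintype_card, hα] at h1
  exact lt_irrefl _ h1

variable (D : BD P p 2 hP) (hp2 : ¬ p ^ 2 ∣ Nat.card G)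

include hp2

/-- The case `A = {F}`: the subgroup `P` is normal. -/
theorem normal_of_A (hα : Fintype.card α = p) (hfaith : ∀ g : G, (∀ a : α, g • a = a) → g = 1)
    {F : IrrCharacter G} (hA : setA D = {F}) (hB : setB D = ∅) (hD₀ : D.D₀ = 2)
    (hF1 : charDegree (F : G → ℂ) = 1)
    (hπ : ∀ g : G, (Nat.card (fixedBy α g) : ℂ) = 1 + ∑ i, (D.ν i : G → ℂ) g) : P.Normal := by
  obtain ⟨hε, -⟩ := ε_of_A D hA hB
  have hp1 := hp.out.two_le
  have hχ := isCharacter_of_isIrrCharacter F.2
  have h1 : (F : G → ℂ) 1 = 1 := by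
    rw [← charDegree_natCast hχ, hF1]
    simp
  obtain ⟨lam, hlam⟩ := Cfsg.Agent.Lib.Char.Linear.exists_hom_of_deg_one hχ h1
  have hFval : ∀ g, (F : G → ℂ) g = (lam g : ℂ) := fun g => congrFun hlam g
  have hzF : D.z F = -1 := by
    have : F ∈ setA D := by rw [hA]; exact Finset.mem_singleton_self F
    exact (Finset.mem_filter.mp this).2.1
  -- regular elements of the kernel
  have hreg : ∀ g ∈ lam.ker, ¬ p ∣ orderOf g → g = 1 := by
    intro g hg hgp
    apply eq_one_of_card_fixed hα hfaith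
    have hg1 : (F : G → ℂ) g = 1 := by
      rw [hFval, MonoidHom.mem_ker.mp hg]
      simp
    have hν : ∀ i, (D.ν i : G → ℂ) g = 2 := by
      intro i
      have h2 := D.reg_rel i hgp
      rw [sum_z D (fun j => (j : G → ℂ) g), hA, hB, hε] at h2
      simp only [Finset.sum_empty, Finset.sum_singleton, hg1] at h2
      have h3 : ((oneIrr G : IrrCharacter G) : G → ℂ) g = 1 := rfl
      rw [h3] at h2
      push_cast at h2
      linear_combination h2
    have h2 := hπ g
    simp only [hν] at h2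
    rw [Finset.sum_const, Finset.card_univ, Fintype.card_fin, nsmul_eq_mul] at h2
    have hte := D.hte
    have h3 : ((Nat.card (fixedBy α g) : ℕ) : ℂ) = ((1 + D.t * 2 : ℕ) : ℂ) := by
      rw [h2]
      push_cast
      ring
    have h4 : Nat.card (fixedBy α g) = 1 + D.t * 2 := by exact_mod_cast h3
    omega
  -- `P` lies in the kernel
  have hPK : P ≤ lam.ker := by
    intro u hu
    by_cases hu1 : u = 1
    · rw [hu1]
      exact Subgroup.one_mem _
    · have h2 := D.val_z hp2 (j := F) (by rw [hzF]; norm_num) (u := ⟨u, hu⟩)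
        (fun h => hu1 (congrArg Subtype.val h))
      rw [hzF, hFval] at h2
      rw [MonoidHom.mem_ker]
      apply Units.ext
      rw [h2]
      simp
  -- the kernel is a `p`-group
  have hKp : IsPGroup p lam.ker := by
    rw [IsPGroup.iff_orderOf]
    intro g
    rw [← Subgroup.orderOf_coe]
    have ho : orderOf (g : G) ≠ 0 := (orderOf_pos _).ne'
    obtain ⟨a, m', hm', hm⟩ := Nat.exists_eq_pow_mul_and_not_dvd ho p hp.out.ne_one
    refine ⟨a, ?_⟩
    have hpa : p ^ a ≠ 0 := pow_ne_zero _ hp.out.ne_zero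
    have hord : orderOf ((g : G) ^ p ^ a) = m' := by
      rw [orderOf_pow' _ hpa, hm, Nat.gcd_mul_right_left]
      exact Nat.mul_div_cancel_left _ (Nat.pos_of_ne_zero hpa)
    have hmem : (g : G) ^ p ^ a ∈ lam.ker := Subgroup.pow_mem _ g.2 _
    have h3 := hreg _ hmem (by rw [hord]; exact hm')
    rw [h3, orderOf_one] at hord
    rw [hm, ← hord, mul_one]
  obtain ⟨k, hk⟩ := IsPGroup.iff_card.mp hKp
  have hkdvd : Nat.card lam.ker ∣ Nat.card G := Subgroup.card_subgroup_dvd_card _
  have hk1 : k ≤ 1 := by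
    by_contra hcon
    apply hp2
    rw [hk] at hkdvd
    exact (pow_dvd_pow p (by omega)).trans hkdvd
  have heq : P = lam.ker := by
    apply Subgroup.eq_of_le_of_card_ge hPK
    rw [hP, hk]
    calc p ^ k ≤ p ^ 1 := Nat.pow_le_pow_right hp.out.pos hk1
      _ = p := pow_one p
  rw [heq]
  exact MonoidHom.normal_ker lam

/-- The case `B = {F}`: the conclusion. -/
theorem sharp_of_B (hα : Fintype.card α = p) (hfaith : ∀ g : G, (∀ a : α, g • a = a) → g = 1) (hC : Cn P = P)
    (hodd : p ≠ 2) (hNp : Nat.card (Nn P) = p * 2)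
    {F : IrrCharacter G} (hA : setA D = ∅) (hB : setB D = {F}) (hdeg : charDegree (F : G → ℂ) = p - 1)
    (hπ : ∀ g : G, (Nat.card (fixedBy α g) : ℂ) = 1 + (F : G → ℂ) g) :
    IsMultiplyPretransitive G α 3 ∧ ∀ g : G, 3 ≤ Nat.card (fixedBy α g) → g = 1 := by
  have hε := ε_of_B D hA hB
  have hp1 := hp.out.two_le
  obtain ⟨τ, hττ, -, -, hinv⟩ := exists_τ hP hC hNp hodd
  have hχ := isCharacter_of_isIrrCharacter F.2
  have hcf := isClassFunction_iff_isConj.mp (isClassFunction_of_isCharacter hχ)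
  -- elements of order divisible by `p`
  have hsing : ∀ g : G, p ∣ orderOf g → (F : G → ℂ) g = -1 := by
    intro g hg
    obtain ⟨y, hy, hy1⟩ := exists_conj_mem hP hp2 hC hg
    rw [hcf g (y⁻¹ * g * y) (isConj_iff.mpr ⟨y⁻¹, by group⟩)]
    exact F_val D hp2 hB (u := ⟨_, hy⟩) (fun h => hy1 (congrArg Subtype.val h))
  have hF : ∀ g, (F : G → ℂ) g = (Nat.card (fixedBy α g) : ℂ) - 1 := by
    intro g
    rw [hπ g]
    ring
  have hfix : ∀ g : G, 3 ≤ Nat.card (fixedBy α g) → g = 1 := by
    intro g hg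
    by_cases hgp : p ∣ orderOf g
    · exfalso
      have h1 := hsing g hgp
      rw [hF g] at h1
      have h2 : (Nat.card (fixedBy α g) : ℂ) = ((0 : ℕ) : ℂ) := by
        push_cast
        linear_combination h1
      have h3 : Nat.card (fixedBy α g) = 0 := by exact_mod_cast h2
      omega
    · rcases reg_vals D hp2 hC hε hA hB hdeg hττ hinv hodd hgp with h1 | h1 | h1
      · exfalso
        rw [hF g] at h1
        have h2 : (Nat.card (fixedBy α g) : ℂ) = ((1 : ℕ) : ℂ) := by
          push_cast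
          linear_combination h1
        have h3 : Nat.card (fixedBy α g) = 1 := by exact_mod_cast h2
        omega
      · exfalso
        rw [hF g] at h1
        have h2 : (Nat.card (fixedBy α g) : ℂ) = ((2 : ℕ) : ℂ) := by
          push_cast
          linear_combination h1
        have h3 : Nat.card (fixedBy α g) = 2 := by exact_mod_cast h2
        omega
      · apply eq_one_of_card_fixed hα hfaith
        rw [hF g] at h1
        have h2 : (Nat.card (fixedBy α g) : ℂ) = (p : ℂ) := by
          linear_combination h1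
        exact_mod_cast h2
  refine ⟨?_, hfix⟩
  -- the order of the group
  have hcard : (Nat.card G : ℂ) = ((p : ℂ) - 1) ^ 3 - ((p : ℂ) - 1) := by
    have h1 := sum_F_cube D hp2 hC hε hA hB hdeg hττ hinv hodd
    have h2 := sum_F D hB
    have h3 : ∑ g, ((F : G → ℂ) g * (F : G → ℂ) g * (F : G → ℂ) g - (F : G → ℂ) g) = (Nat.card G : ℂ) := by
      rw [Finset.sum_sub_distrib, h1, h2, sub_zero]
    rw [Finset.sum_eq_single (1 : G)] at h3
    · rw [← h3, ← charDegree_natCast hχ, hdeg, Nat.cast_sub (by omega)]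
      push_cast
      ring
    · intro g _ hg1
      by_cases hgp : p ∣ orderOf g
      · rw [hsing g hgp]
        ring
      · rcases reg_vals D hp2 hC hε hA hB hdeg hττ hinv hodd hgp with h4 | h4 | h4
        · rw [h4]
          ring
        · rw [h4]
          ring
        · exfalso
          apply hg1
          apply eq_one_of_card_fixed hα hfaith
          rw [hF g] at h4
          have h5 : (Nat.card (fixedBy α g) : ℂ) = (p : ℂ) := by
            linear_combination h4
          exact_mod_cast h5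
    · simp
  have hp3 : 3 ≤ p := by omega
  have hcardN : Nat.card G = p * (p - 1) * (p - 2) := by
    have h1 : ((Nat.card G : ℕ) : ℂ) = ((p * (p - 1) * (p - 2) : ℕ) : ℂ) := by
      rw [hcard, Nat.cast_mul, Nat.cast_mul, Nat.cast_sub (by omega), Nat.cast_sub (by omega)]
      push_cast
      ring
    exact_mod_cast h1
  -- the action on triples
  have hemb : Fintype.card (Fin 3 ↪ α) = p * (p - 1) * (p - 2) := by
    rw [Fintype.card_embedding_eq, hα, Fintype.card_fin]
    obtain ⟨q, rfl⟩ : ∃ q, p = q + 3 := ⟨p - 3, by omega⟩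
    simp [Nat.descFactorial]
    ring
  obtain ⟨x₀⟩ : Nonempty (Fin 3 ↪ α) := by
    rw [← Fintype.card_pos_iff, hemb]
    have h1 : 0 < p - 1 := by omega
    have h2 : 0 < p - 2 := by omega
    positivity
  have hinj : Function.Injective (fun g : G => g • x₀) := by
    intro a b hab
    have h1 : (b⁻¹ * a) • x₀ = x₀ := by
      have h2 : a • x₀ = b • x₀ := hab
      rw [mul_smul, h2, inv_smul_smul]
    have h2 : b⁻¹ * a = 1 := by
      apply hfix
      have h3 : ∀ i, x₀ i ∈ fixedBy α (b⁻¹ * a) := by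
        intro i
        have h4 := DFunLike.congr_fun h1 i
        exact h4
      have h5 : Nat.card (Fin 3) ≤ Nat.card (fixedBy α (b⁻¹ * a)) :=
        Nat.card_le_card_of_injective (fun i => (⟨x₀ i, h3 i⟩ : fixedBy α (b⁻¹ * a)))
          (fun i j hij => x₀.injective (congrArg Subtype.val hij))
      simpa using h5
    exact (inv_mul_eq_one.mp h2).symm
  have hbij : Function.Bijective (fun g : G => g • x₀) := by
    rw [Fintype.bijective_iff_injective_and_card]
    refine ⟨hinj, ?_⟩
    rw [hemb, ← hcardN, Nat.card_eq_fintype_card]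
  refine ⟨fun x y => ?_⟩
  obtain ⟨a, ha⟩ := hbij.2 x
  obtain ⟨b, hb⟩ := hbij.2 y
  refine ⟨b * a⁻¹, ?_⟩
  have ha' : a • x₀ = x := ha
  have hb' : b • x₀ = y := hb
  rw [mul_smul, ← ha', inv_smul_smul, hb']

end Main

/-- **Permutation groups of prime degree with `|N(P)| = 2 p` and `P` not normal.** -/
theorem main_perm {G : Type u} [Group G] [Finite G] {α : Type v} [Fintype α] [MulAction G α] {p : ℕ}
    [hp : Fact p.Prime] (hα : Fintype.card α = p) (hfaith : ∀ g : G, (∀ a : α, g • a = a) → g = 1)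
    (Q : Sylow p G) (hN : Nat.card (Subgroup.normalizer ((Q : Subgroup G) : Set G)) = 2 * p) (hodd : p ≠ 2)
    (hnn : ¬ (Q : Subgroup G).Normal) :
    IsMultiplyPretransitive G α 3 ∧ ∀ g : G, 3 ≤ Nat.card (fixedBy α g) → g = 1 := by
  classical
  let _ : Fintype G := Fintype.ofFinite G
  have := finite_irrCharacter (G := G)
  let _ := Fintype.ofFinite (IrrCharacter G)
  have hp1 := hp.out.two_le
  have hpos := hp.out.pos
  obtain ⟨hQc, hp2⟩ := sylow_card_of_normalizer hodd Q hN hnn
  obtain ⟨P, hQ₀⟩ : ∃ P : Subgroup G, (Q : Subgroup G) = P := ⟨_, rfl⟩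
  let _ : Fintype P := Fintype.ofFinite _
  have hP : Nat.card P = p := by rw [← hQ₀]; exact hQc
  rw [hQ₀] at hN hnn
  obtain ⟨htrans, hreg⟩ := regular_of_prime hα hfaith P hP
  have hC := cent_of_prime hα hfaith P hP
  have hNp : Nat.card (Nn P) = p * 2 := by rw [mul_comm]; exact hN
  have hCN : Cn P ≤ Nn P := Subgroup.centralizer_le_normalizer _
  have hCc : Nat.card (Cn P) = p := by
    rw [← hP]
    exact Nat.card_congr (Equiv.setCongr (by rw [hC]))
  have hNe : Nat.card (Nn P) = 2 * Nat.card (Cn P) := by rw [hCc, hNp, mul_comm]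
  have hrel : (Cn P).relIndex (Nn P) = 2 := by
    have h1 := Subgroup.card_mul_index ((Cn P).subgroupOf (Nn P))
    have h2 : Nat.card ((Cn P).subgroupOf (Nn P)) = Nat.card (Cn P) :=
      Nat.card_congr (Subgroup.subgroupOfEquivOfLe hCN).toEquiv
    rw [h2, hNe] at h1
    have h3 : Nat.card (Cn P) * ((Cn P).subgroupOf (Nn P)).index = Nat.card (Cn P) * 2 := by
      rw [h1, mul_comm]
    exact Nat.eq_of_mul_eq_mul_left Nat.card_pos h3
  obtain ⟨M, hM⟩ := Cfsg.Agent.Lib.BlockH.Basic.exists_isPModular hp.out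
  have := finite_DD (p := p) (P := P) hP hp2
  let _ : Fintype (DD P p) := Fintype.ofFinite _
  have hcount : Nat.card (principalBlock M G) = 2 + (p - 1) / 2 :=
    (Cfsg.Agent.S0960.result p M hM hodd Q hQc 2 (by rw [hQ₀]; exact hrel)).1
  obtain ⟨D⟩ := exists_BD hM hP hp2 2 hNe hodd hcount
  -- the permutation character
  have hγ : IsCharacter G (fun g : G => (Nat.card (fixedBy α g) : ℂ)) :=
    Cfsg.Agent.Lib.Char.Orbital.isCharacter_permChar
  obtain ⟨m, hm1, hm2⟩ := exists_decomp hγ
  have hne : Nonempty α := by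
    rw [← Fintype.card_pos_iff, hα]
    exact hpos
  have : IsPretransitive G α := ⟨fun a b => by
    obtain ⟨u, -, hub⟩ := htrans a b
    exact ⟨u, hub⟩⟩
  have hone : m (oneIrr G) = 1 := by
    have h1 := hm1 (oneIrr G)
    have h2 : classInner (fun g : G => (Nat.card (fixedBy α g) : ℂ)) (fun _ => (1 : ℂ)) = 1 :=
      Cfsg.Agent.Lib.BrauerP.Data.classInner_perm_one'
    have h3 : ((m (oneIrr G) : ℕ) : ℂ) = 1 := by
      rw [← h1]
      exact h2
    exact_mod_cast h3
  have h0 : ∀ u : P, u ≠ 1 → (Nat.card (fixedBy α (u : G)) : ℂ) = 0 := by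
    intro u hu
    have : IsEmpty (fixedBy α (u : G)) := ⟨fun a => hu (Subtype.ext (hreg u u.2 a.1 a.2))⟩
    rw [Nat.card_of_isEmpty]
    simp
  have hd : (Nat.card (fixedBy α (1 : G)) : ℂ) = (p : ℂ) := by
    have h1 : Nat.card (fixedBy α (1 : G)) = Nat.card α :=
      Nat.card_congr (Equiv.subtypeUnivEquiv (by simp))
    rw [h1, Nat.card_eq_fintype_card, hα]
  have hAB := card_setA_add D
  have hcases : ((setA D).card = 0 ∧ (setB D).card = 1) ∨ ((setA D).card = 1 ∧ (setB D).card = 0) := by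
    omega
  rcases hcases with ⟨h1, h2⟩ | ⟨h1, h2⟩
  · obtain ⟨F, hB⟩ := Finset.card_eq_one.mp h2
    have hA := Finset.card_eq_zero.mp h1
    obtain ⟨hdeg, hπ⟩ := decomp_B D hp2 hC hA hB hm2 hone h0 hd
    exact sharp_of_B D hp2 hα hfaith hC hodd hNp hA hB hdeg hπ
  · exfalso
    obtain ⟨F, hA⟩ := Finset.card_eq_one.mp h1
    have hB := Finset.card_eq_zero.mp h2
    obtain ⟨hD₀, hF1, hπ⟩ := decomp_A D hp2 hC hA hB hm2 hone h0 hd
    exact hnn (normal_of_A D hp2 hα hfaith hA hB hD₀ hF1 hπ)

end Cfsg.Agent.Lib.BrauerP.TwoE
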